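import Cfsg.Agent.Lib.O8Three.Closed.Steps
import Cfsg.Agent.Lib.A9Three.CentB

/-!
S3372: the centraliser of a vector of the orbit of length twelve lies in `M`, by the theorem on groups with an
abelian Sylow 3-subgroup with inertial index two.
-/

set_option autoImplicit false
set_option maxHeartbeats 1000000
set_option linter.style.haveILetI false

namespace Cfsg.Agent.O8Three.Closed

open Subgroup

universe u

theorem no_fusion : ∀ c ∈ stab, mulC c (0, 4, 5) ≠ mulC (4, 0, 4) c ∧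
    mulC c (0, 4, 5) ≠ mulC (mulC (4, 0, 4) (4, 0, 4)) c := by decide +kernel

theorem app_eC : ∀ v : V, app eC v = v := by decide +kernel

theorem mulC_right : ∀ c ∈ stab, ∀ d ∈ stab, mulC c d = c → d = eC := by decide +kernel

theorem mulC_cancel : ∀ c ∈ stab, ∀ d ∈ stab, ∀ d' ∈ stab, mulC d c = mulC d' c → d = d' := by
  decide +kernel

theorem sylE_eC : ∀ c ∈ sylE, mulC c eC = c := by decide +kernel

theorem sylE_ne : ((4, 0, 4) : Code) ≠ eC ∧ ((0, 4, 5) : Code) ≠ eC := by decide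

namespace Hyp

variable {X : Type u} [Group X] (P : Hyp X)

theorem acts_unique {m : X} {c d : Code} (h : P.Acts m c) (h' : P.Acts m d) : c = d := by
  refine key_inj c d ?_
  have e : app c = app d := funext fun v => P.f_inj ((h v).symm.trans (h' v))
  rw [e]

theorem acts_mul {m n : X} {a b : Code} (ha : P.Acts m a) (hb : P.Acts n b) :
    ∀ v, m * n * P.f v * (m * n)⁻¹ = P.f (app a (app b v)) := fun v => by
  rw [← ha, ← hb]; group

/-- The elements of `M` centralising the base vector, with their codes. -/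
def Loc (g : X) (c : Code) : Prop := g ∈ P.M ∧ c ∈ stab ∧ P.Acts g c

variable {P}

theorem Loc.unique {g : X} {c d : Code} (h : P.Loc g c) (h' : P.Loc g d) : c = d :=
  P.acts_unique h.2.2 h'.2.2

theorem exists_loc {g : X} (hg : g ∈ P.M) (hr : g * P.f r12 = P.f r12 * g) : ∃ c, P.Loc g c := by
  obtain ⟨c, hc⟩ := P.act g hg
  refine ⟨c, hg, stab_complete c (P.f_inj ?_), hc⟩
  rw [← hc, hr, mul_inv_cancel_right]

theorem Loc.comm {g : X} {c : Code} (h : P.Loc g c) : g * P.f r12 = P.f r12 * g := by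
  have e := h.2.2 r12
  rw [stab_fix c h.2.1, mul_inv_eq_iff_eq_mul] at e
  exact e

theorem Loc.mul {g h : X} {a b : Code} (ha : P.Loc g a) (hb : P.Loc h b) : P.Loc (g * h) (mulC a b) := by
  obtain ⟨c, hc⟩ := exists_loc (mul_mem ha.1 hb.1)
    (show g * h * P.f r12 = P.f r12 * (g * h) by rw [mul_assoc, hb.comm, ← mul_assoc, ha.comm, mul_assoc])
  have e : c = mulC a b := by
    refine key_inj _ _ ?_
    rw [mulC_key a ha.2.1 b hb.2.1]
    exact congrArg key (funext fun v => P.f_inj ((hc.2.2 v).symm.trans (P.acts_mul ha.2.2 hb.2.2 v)))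
  exact e ▸ hc

theorem loc_one : P.Loc 1 eC := by
  refine ⟨one_mem _, ?_, fun v => by rw [app_eC, one_mul, inv_one, mul_one]⟩
  exact stab_complete _ (app_eC _)

theorem Loc.sq_one {g : X} (h : P.Loc g eC) : g * g = 1 := by
  obtain ⟨v, hv⟩ := P.cen g h.1 fun v => by
    have e := h.2.2 v
    rw [app_eC, mul_inv_eq_iff_eq_mul] at e
    exact e
  rw [← hv, P.f_self]

theorem Loc.six {g : X} {c : Code} (h : P.Loc g c) : P.Loc (g * g * (g * g * (g * g))) eC := by
  have h2 := h.mul h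
  have := h2.mul (h2.mul h2)
  rwa [mulC_six c h.2.1] at this

theorem Loc.pow_twelve {g : X} {c : Code} (h : P.Loc g c) : g ^ 12 = 1 := by
  rw [← h.six.sq_one, show 12 = (2 + (2 + 2)) + (2 + (2 + 2)) from rfl]
  simp only [pow_add, pow_two]

theorem Loc.cube {g : X} {c : Code} (h : P.Loc g c) {k : ℕ} (hk : g ^ 3 ^ k = 1) : g ^ 3 = 1 := by
  have h1 : orderOf g ∣ Nat.gcd 12 (3 ^ k) :=
    Nat.dvd_gcd (orderOf_dvd_of_pow_eq_one h.pow_twelve) (orderOf_dvd_of_pow_eq_one hk)
  obtain ⟨j, -, hj⟩ := (Nat.dvd_prime_pow Nat.prime_three).1 (h1.trans (Nat.gcd_dvd_right _ _))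
  have h12 : 3 ^ j ∣ 12 := hj ▸ orderOf_dvd_of_pow_eq_one h.pow_twelve
  rcases j with _ | _ | j
  · rw [pow_zero] at hj
    rw [orderOf_eq_one_iff.1 hj, one_pow]
  · rw [zero_add, pow_one] at hj
    rw [← hj, pow_orderOf_eq_one]
  · exact absurd ((pow_dvd_pow 3 (by omega : 2 ≤ j + 1 + 1)).trans h12) (by decide)

theorem Loc.eq_one {g : X} (h : P.Loc g eC) (h3 : g ^ 3 = 1) : g = 1 := by
  rw [pow_three, h.sq_one, mul_one] at h3
  exact h3

theorem Loc.sylE_of {g : X} {c : Code} (h : P.Loc g c) (h3 : g ^ 3 = 1) : c ∈ sylE := by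
  refine sylE_of_cube c h.2.1 (Loc.unique (P := P) (g := g ^ 3) ?_ (by rw [h3]; exact loc_one))
  rw [pow_three]
  exact h.mul (h.mul h)

theorem exists_three (d : Code) (hd : d ∈ sylE) : ∃ x : X, P.Loc x d ∧ x ^ 3 = 1 := by
  obtain ⟨m, hm, ha⟩ := P.real d
  have h : P.Loc m d := ⟨hm, sylE_sub d hd, ha⟩
  refine ⟨m * (m * (m * m)), ?_, ?_⟩
  · have h4 := h.mul (h.mul (h.mul h))
    rwa [sylE_cube d hd, sylE_eC d hd] at h4
  · rw [show m * (m * (m * m)) = m ^ 4 by simp [pow_succ, mul_assoc], ← pow_mul]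
    exact h.pow_twelve

variable (P)

/-- **The centraliser of the base vector lies in `M`.** -/
theorem base [Finite X] : centralizer ({P.f r12} : Set X) ≤ P.M := by
  classical
  haveI : Fact (Nat.Prime 3) := ⟨Nat.prime_three⟩
  set C : Subgroup X := centralizer ({P.f r12} : Set X) with hC
  have locC : ∀ g : C, (g : X) ∈ P.M → ∃ c, P.Loc (g : X) c := fun g hg =>
    exists_loc hg (mem_centralizer_singleton_iff.1 g.2)
  -- a Sylow subgroup containing an element of order three of `M`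
  obtain ⟨x, hx, hx3⟩ := exists_three (P := P) _ sylE_two.1
  obtain ⟨y, hy, hy3⟩ := exists_three (P := P) _ sylE_two.2.1
  have hxne : x ≠ 1 := fun e => sylE_ne.1 (hx.unique (e ▸ loc_one))
  set xC : C := ⟨x, mem_centralizer_singleton_iff.2 hx.comm⟩ with hxC
  set yC : C := ⟨y, mem_centralizer_singleton_iff.2 hy.comm⟩ with hyC
  have isp : ∀ z : C, z ^ 3 = 1 → IsPGroup 3 (zpowers z) := fun z hz => by
    obtain ⟨i, -, hi⟩ := (Nat.dvd_prime_pow Nat.prime_three).1 (orderOf_dvd_of_pow_eq_one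
      (show z ^ 3 ^ 1 = 1 by rw [pow_one]; exact hz))
    exact IsPGroup.of_card (n := i) (by rw [Nat.card_zpowers, hi])
  obtain ⟨R, hR⟩ := (isp xC (Subtype.ext hx3)).exists_le_sylow
  have hxR : xC ∈ (R : Subgroup C) := hR (mem_zpowers _)
  have pow3 : ∀ g ∈ (R : Subgroup C), ∃ k, (g : X) ^ 3 ^ k = 1 := fun g hg => by
    obtain ⟨k, hk⟩ := R.isPGroup' ⟨g, hg⟩
    exact ⟨k, by simpa [Subtype.ext_iff] using hk⟩
  -- it lies in `M`
  have hRM : ∀ g ∈ (R : Subgroup C), (g : X) ∈ P.M := by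
    haveI : Nontrivial (R : Subgroup C) :=
      ⟨⟨xC, hxR⟩, 1, fun e => hxne (congrArg (fun w : (R : Subgroup C) => ((w : C) : X)) e)⟩
    haveI := R.isPGroup'.center_nontrivial
    obtain ⟨z, hz⟩ := exists_ne (1 : center (R : Subgroup C))
    obtain ⟨k, hk⟩ := (R.isPGroup'.to_subgroup (center _)) z
    obtain ⟨k', hk', hk1⟩ : ∃ k', orderOf z = 3 ^ k' ∧ 1 ≤ k' := by
      obtain ⟨k', -, e⟩ := (Nat.dvd_prime_pow Nat.prime_three).1 (orderOf_dvd_of_pow_eq_one hk)
      refine ⟨k', e, Nat.one_le_iff_ne_zero.2 fun h0 => hz ?_⟩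
      rw [h0, pow_zero] at e
      exact orderOf_eq_one_iff.1 e
    set w := z ^ 3 ^ (k' - 1) with hw
    have hw3 : w ^ 3 = 1 := by
      rw [hw, ← pow_mul, ← pow_succ, Nat.sub_add_cancel hk1, ← hk', pow_orderOf_eq_one]
    have hw1 : w ≠ 1 := fun e => by
      have := Nat.le_of_dvd (pow_pos (by norm_num) _) (hk' ▸ orderOf_dvd_of_pow_eq_one e :
        3 ^ k' ∣ 3 ^ (k' - 1))
      have := (Nat.pow_lt_pow_iff_right (by norm_num : 1 < 3)).2 (show k' - 1 < k' by omega)
      omega
    set wX : X := (((w : (R : Subgroup C)) : C) : X) with hwX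
    have hwc : ∀ g ∈ (R : Subgroup C), (g : X) * wX = wX * (g : X) := fun g hg =>
      congrArg (fun u : (R : Subgroup C) => ((u : C) : X)) (mem_center_iff.1 w.2 ⟨g, hg⟩)
    have hwM : wX ∈ P.M := P.strong x hx.1 hx3 hxne wX (by
      have := hwc xC hxR
      rw [hxC] at this
      rw [← this, mul_inv_cancel_right]; exact hx.1)
    have hw3X : wX ^ 3 = 1 := congrArg (fun u : center (R : Subgroup C) => ((u : (R : Subgroup C)) : C).1) hw3
    have hw1X : wX ≠ 1 := fun e => hw1 (Subtype.ext (Subtype.ext (Subtype.ext e)))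
    intro g hg
    exact P.strong wX hwM hw3X hw1X g (by rw [hwc g hg, mul_inv_cancel_right]; exact hwM)
  have locR : ∀ g ∈ (R : Subgroup C), ∃ c ∈ sylE, P.Loc (g : X) c ∧ (g : X) ^ 3 = 1 := fun g hg => by
    obtain ⟨c, hc⟩ := locC g (hRM g hg)
    obtain ⟨k, hk⟩ := pow3 g hg
    exact ⟨c, hc.sylE_of (hc.cube hk), hc, hc.cube hk⟩
  have eqR : ∀ g ∈ (R : Subgroup C), ∀ h ∈ (R : Subgroup C), ∀ c, P.Loc (g : X) c → P.Loc (h : X) c →
      g = h := by
    intro g hg h hh c hgc hhc
    obtain ⟨c', -, hc', h3⟩ := locR (g⁻¹ * h) (mul_mem (inv_mem hg) hh)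
    have e : P.Loc ((g : X) * (g⁻¹ * h : C)) c := by
      rw [coe_mul, coe_inv, mul_inv_cancel_left]; exact hhc
    have hc'e : c' = eC := mulC_right
      c hgc.2.1 c' hc'.2.1 ((hgc.mul hc').unique e)
    exact (inv_mul_eq_one.1 (Subtype.ext ((hc'e ▸ hc').eq_one h3)))
  have hcomm : ∀ g ∈ (R : Subgroup C), ∀ h ∈ (R : Subgroup C), g * h = h * g := fun g hg h hh => by
    obtain ⟨a, ha, hla, -⟩ := locR g hg
    obtain ⟨b, hb, hlb, -⟩ := locR h hh
    refine eqR _ (mul_mem hg hh) _ (mul_mem hh hg) (mulC a b) ?_ ?_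
    · rw [coe_mul]; exact hla.mul hlb
    · rw [coe_mul, sylE_comm a ha b hb]; exact hlb.mul hla
  -- it is not cyclic
  have hnc : ¬ IsCyclic (R : Subgroup C) := fun hcyc => by
    obtain ⟨S, hS⟩ := (isp yC (Subtype.ext hy3)).exists_le_sylow
    obtain ⟨k, hk⟩ := MulAction.exists_smul_eq C S R
    have hkR : k * yC * k⁻¹ ∈ (R : Subgroup C) := by
      rw [← hk, Sylow.coe_subgroup_smul]
      exact ⟨yC, hS (mem_zpowers _), by simp⟩
    have hky : (k : X) * y * (k : X)⁻¹ ∈ P.M := hRM _ hkR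
    have hyne : y ≠ 1 := fun e => sylE_ne.2 (hy.unique (e ▸ loc_one))
    obtain ⟨c, hc⟩ := locC k (P.strong y hy.1 hy3 hyne k hky)
    obtain ⟨⟨g, hg⟩, hgen⟩ := hcyc.exists_generator
    obtain ⟨d, -, hd, hg3⟩ := locR g hg
    have span : ∀ h ∈ (R : Subgroup C), h = 1 ∨ h = g ∨ h = g * g := by
      intro h hh
      obtain ⟨n, hn⟩ := mem_zpowers_iff.1 (hgen ⟨h, hh⟩)
      have e : g ^ n = h := by simpa using congrArg Subtype.val hn
      have hg3' : g ^ (3 : ℤ) = 1 := Subtype.ext (by simpa using hg3)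
      rw [show n = n % 3 + 3 * (n / 3) by omega, zpow_add, zpow_mul, hg3', one_zpow, mul_one] at e
      have : n % 3 = 0 ∨ n % 3 = 1 ∨ n % 3 = 2 := by omega
      rcases this with h3 | h3 | h3 <;> rw [h3] at e
      · exact Or.inl (by rw [← e, zpow_zero])
      · exact Or.inr (Or.inl (by rw [← e, zpow_one]))
      · exact Or.inr (Or.inr (by rw [← e, zpow_two]))
    have hx1 : xC ≠ 1 := fun e => hxne (congrArg Subtype.val e)
    have hy1 : k * yC * k⁻¹ ≠ 1 := fun e => hyne (by
      have := congrArg Subtype.val (conj_eq_one_iff.1 e)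
      exact this)
    have key : k * yC * k⁻¹ = xC ∨ k * yC * k⁻¹ = xC * xC := by
      have hg3' : g * (g * g) = 1 := Subtype.ext (by simpa [pow_three] using hg3)
      rcases span _ hxR with e | e | e <;> rcases span _ hkR with e' | e' | e' <;>
        first
          | exact absurd e hx1
          | exact absurd e' hy1
          | exact Or.inl (e'.trans e.symm)
          | (refine Or.inr ?_; rw [e', e]; done)
          | (refine Or.inr ?_; rw [e', e]; simp [mul_assoc, hg3'])
    rcases key with e | e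
    · have e2 : (k : X) * y = x * k := by
        have := congrArg Subtype.val e
        simp only [coe_mul, coe_inv, hxC, hyC] at this
        rw [mul_inv_eq_iff_eq_mul] at this
        exact this
      exact (no_fusion c hc.2.1).1 ((hc.mul hy).unique (e2 ▸ hx.mul hc))
    · have e2 : (k : X) * y = x * x * k := by
        have := congrArg Subtype.val e
        simp only [coe_mul, coe_inv, hxC, hyC] at this
        rw [mul_inv_eq_iff_eq_mul] at this
        exact this
      exact (no_fusion c hc.2.1).2 ((hc.mul hy).unique (e2 ▸ (hx.mul hx).mul hc))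
  -- the subgroup over the elementary group of codes
  let K1 : Subgroup C :=
    { carrier := {g | ∃ c ∈ sylE, P.Loc (g : X) c}
      one_mem' := ⟨eC, by decide, loc_one⟩
      mul_mem' := fun ⟨a, ha, hla⟩ ⟨b, hb, hlb⟩ => ⟨_, sylE_mul a ha b hb, hla.mul hlb⟩
      inv_mem' := by
        intro g ⟨a, ha, hla⟩
        have hp : ∀ n : ℕ, ∃ c ∈ sylE, P.Loc ((g : X) ^ n) c := by
          intro n
          induction n with
          | zero => exact ⟨eC, by decide, by rw [pow_zero]; exact loc_one⟩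
          | succ n ih =>
            obtain ⟨c, hc, hlc⟩ := ih
            exact ⟨_, sylE_mul c hc a ha, by rw [pow_succ]; exact hlc.mul hla⟩
        obtain ⟨c, hc, hlc⟩ := hp 11
        refine ⟨c, hc, ?_⟩
        rwa [coe_inv, inv_eq_of_mul_eq_one_left (show (g : X) ^ 11 * (g : X) = 1 by
          rw [← pow_succ]; exact hla.pow_twelve)] }
  have hRK : (R : Subgroup C) ≤ K1 := fun g hg => by
    obtain ⟨c, hc, hl, -⟩ := locR g hg
    exact ⟨c, hc, hl⟩
  -- an element inverting it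
  obtain ⟨t, ht, hta⟩ := P.real tC
  have htl : P.Loc t tC := ⟨ht, sylE_two.2.2, hta⟩
  set tc : C := ⟨t, mem_centralizer_singleton_iff.2 htl.comm⟩ with htc
  have hRtK : ((tc • R : Sylow 3 C) : Subgroup C) ≤ K1 := by
    rw [Sylow.coe_subgroup_smul]
    rintro _ ⟨g, hg, rfl⟩
    obtain ⟨d, hd, hl, -⟩ := locR g hg
    have hmem : (((tc * g * tc⁻¹ : C)) : X) ∈ P.M :=
      mul_mem (mul_mem ht (hRM g hg)) (inv_mem ht)
    obtain ⟨d', hd'⟩ := locC (tc * g * tc⁻¹) hmem
    refine ⟨d', sylE_normal tC htl.2.1 d hd d' hd'.2.1 ((htl.mul hl).unique ?_), hd'⟩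
    have := hd'.mul htl
    rwa [show ((tc * g * tc⁻¹ : C) : X) * t = t * g by
      simp only [coe_mul, coe_inv, htc]; group] at this
  obtain ⟨k, hk⟩ := MulAction.exists_smul_eq K1 (R.subtype hRK) ((tc • R).subtype hRtK)
  rw [Sylow.smul_subtype] at hk
  have hkR : (k : C) • R = tc • R := Sylow.subtype_injective hk
  set n : C := (k : C)⁻¹ * tc with hn
  have hnN : n ∈ normalizer ((R : Subgroup C) : Set C) := by
    refine Sylow.smul_eq_iff_mem_normalizer.1 ?_
    rw [hn, mul_smul, ← hkR, inv_smul_smul]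
  obtain ⟨a, ha, hla⟩ := inv_mem k.2
  have hnl : P.Loc (n : X) (mulC a tC) := hla.mul htl
  -- every element of the normaliser centralises or inverts
  have hdich : ∀ g ∈ normalizer ((R : Subgroup C) : Set C), ∃ c, P.Loc (g : X) c ∧
      ((c ∈ sylE ∧ ∀ h ∈ (R : Subgroup C), g * h * g⁻¹ = h) ∨
        (c ∉ sylE ∧ ∀ h ∈ (R : Subgroup C), g * h * g⁻¹ = h⁻¹)) := by
    intro g hg
    have hgM : (g : X) ∈ P.M := P.strong x hx.1 hx3 hxne g
      (hRM _ ((mem_normalizer_iff.1 hg xC).1 hxR))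
    obtain ⟨c, hc⟩ := locC g hgM
    refine ⟨c, hc, ?_⟩
    have rel : ∀ h ∈ (R : Subgroup C), ∀ d d', P.Loc (h : X) d → P.Loc ((g * h * g⁻¹ : C) : X) d' →
        mulC c d = mulC d' c := fun h _ d d' hd hd' => by
      refine (hc.mul hd).unique ?_
      have := hd'.mul hc
      rwa [show ((g * h * g⁻¹ : C) : X) * (g : X) = g * h by
        simp only [coe_mul, coe_inv]; group] at this
    have cancel : ∀ d ∈ stab, ∀ d' ∈ stab, mulC d c = mulC d' c → d = d' :=
      mulC_cancel c hc.2.1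
    by_cases h : c ∈ sylE
    · refine Or.inl ⟨h, fun u hu => ?_⟩
      have hu' := (mem_normalizer_iff.1 hg u).1 hu
      obtain ⟨d, hd, hld, -⟩ := locR u hu
      obtain ⟨d', hd', hld', -⟩ := locR _ hu'
      refine eqR _ hu' _ hu d ?_ hld
      rwa [cancel d hld.2.1 d' hld'.2.1 (by rw [sylE_comm d hd c h]; exact rel u hu d d' hld hld')]
    · refine Or.inr ⟨h, fun u hu => ?_⟩
      have hu' := (mem_normalizer_iff.1 hg u).1 hu
      obtain ⟨d, hd, hld, hu3⟩ := locR u hu
      obtain ⟨d', hd', hld', -⟩ := locR _ hu'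
      refine eqR _ hu' _ (inv_mem hu) (mulC d d) ?_ ?_
      · rwa [cancel (mulC d d) (mulC_mem d hld.2.1 d hld.2.1) d' hld'.2.1
          ((sylE_inv c hc.2.1 h d hd).symm.trans (rel u hu d d' hld hld'))]
      · rw [coe_inv, inv_eq_of_mul_eq_one_right (show (u : X) * ((u : X) * u) = 1 by
          rw [← pow_three]; exact hu3)]
        exact hld.mul hld
  have hntwo : ∀ h ∈ (R : Subgroup C), n * h * n⁻¹ = h⁻¹ := by
    obtain ⟨c, hc, h | h⟩ := hdich n hnN
    · exact absurd (hc.unique hnl ▸ h.1) (sylE_coset a ha)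
    · exact h.2
  have hsq : ∀ h ∈ (R : Subgroup C), h * (h * h) = 1 := fun h hh => by
    obtain ⟨c, -, -, h3⟩ := locR h hh
    exact Subtype.ext (by simpa [pow_three] using h3)
  have hxinv : xC⁻¹ ≠ xC := fun e => hxne (by
    have h2 : xC * xC = 1 := by rw [← e]; nth_rw 1 [e]; exact mul_inv_cancel _
    have := hsq xC hxR
    rw [h2, mul_one] at this
    exact congrArg Subtype.val this)
  -- the index
  have hidx : ((centralizer ((R : Subgroup C) : Set C)).subgroupOf
      (normalizer ((R : Subgroup C) : Set C))).index = 2 := by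
    rw [index_eq_two_iff]
    refine ⟨⟨n, hnN⟩, fun ⟨b, hb⟩ => ?_⟩
    obtain ⟨c, -, h | h⟩ := hdich b hb
    · refine Or.inr ⟨mem_subgroupOf.2 (mem_centralizer_iff.2 fun u hu => ?_), fun hc' => hxinv ?_⟩
      · exact (mul_inv_eq_iff_eq_mul.1 (h.2 u hu)).symm
      · have := mem_centralizer_iff.1 (mem_subgroupOf.1 hc') xC hxR
        calc xC⁻¹ = b * xC⁻¹ * b⁻¹ := (h.2 _ (inv_mem hxR)).symm
          _ = b * n * xC * (b * n)⁻¹ := by rw [← hntwo _ hxR]; group
          _ = xC := by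
            simp only [coe_mul] at this
            rw [← this, mul_inv_cancel_right]
    · refine Or.inl ⟨mem_subgroupOf.2 (mem_centralizer_iff.2 fun u hu => ?_), fun hc' => hxinv ?_⟩
      · have e : b * n * u * (b * n)⁻¹ = u := by
          calc b * n * u * (b * n)⁻¹ = b * (n * u * n⁻¹) * b⁻¹ := by group
            _ = u := by rw [hntwo u hu, h.2 _ (inv_mem hu), inv_inv]
        exact (mul_inv_eq_iff_eq_mul.1 e).symm
      · have := mem_centralizer_iff.1 (mem_subgroupOf.1 hc') xC hxR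
        have e := h.2 xC hxR
        rw [← this, mul_inv_cancel_right] at e
        exact e.symm
  have hab : IsMulCommutative (R : Subgroup C) :=
    ⟨⟨fun g h => Subtype.ext (hcomm g g.2 h h.2)⟩⟩
  rcases SmithTyrer.residual_or_pLength (by decide : (3 : ℕ) ≠ 2) R hab hnc hidx with hres | hlen
  · exfalso
    apply hres
    have hnres : Cfsg.pResidual 3 C = ⊤ := by
      haveI := PBasic.pResidual_normal_inst 3 C
      set W := Cfsg.pResidual 3 C
      have hcop : Nat.Coprime (orderOf (n ^ 3)) 3 := by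
        have h4 : orderOf (n ^ 3) ∣ 4 := orderOf_dvd_of_pow_eq_one (by
          rw [← pow_mul]; exact Subtype.ext (by simpa using hnl.pow_twelve))
        exact Nat.Coprime.coprime_dvd_left h4 (by decide)
      have hm : n ^ 3 ∈ W := subset_closure hcop
      have hRW : (R : Subgroup C) ≤ W := fun g hg => by
        have hi : n ^ 3 * g * (n ^ 3)⁻¹ = g⁻¹ := by
          rw [pow_three]
          calc n * (n * n) * g * (n * (n * n))⁻¹ = n * (n * (n * g * n⁻¹) * n⁻¹) * n⁻¹ := by group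
            _ = g⁻¹ := by rw [hntwo g hg, hntwo _ (inv_mem hg), inv_inv, hntwo g hg]
        have h1 : n ^ 3 * (g * (n ^ 3)⁻¹ * g⁻¹) ∈ W :=
          mul_mem hm (Subgroup.Normal.conj_mem inferInstance _ (inv_mem hm) g)
        rw [show n ^ 3 * (g * (n ^ 3)⁻¹ * g⁻¹) = n ^ 3 * g * (n ^ 3)⁻¹ * g⁻¹ by group, hi,
          show g⁻¹ * g⁻¹ = g by
            rw [← mul_inv_rev, inv_eq_iff_mul_eq_one, mul_assoc]; exact hsq g hg] at h1
        exact h1
      have hnd : ¬ 3 ∣ W.index := fun h => R.not_dvd_index (h.trans (index_dvd_of_le hRW))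
      refine eq_top_iff.2 fun w _ => ?_
      obtain ⟨i, m, hm3, e⟩ := Nat.exists_eq_pow_mul_and_not_dvd (orderOf_pos w).ne' 3 (by decide)
      have h1 : w ^ 3 ^ i ∈ W := subset_closure (by
        have : orderOf (w ^ 3 ^ i) ∣ m := orderOf_dvd_of_pow_eq_one (by
          rw [← pow_mul, ← e, pow_orderOf_eq_one])
        exact (((Nat.Prime.coprime_iff_not_dvd Nat.prime_three).2 hm3).symm).coprime_dvd_left this)
      rw [← QuotientGroup.eq_one_iff, ← orderOf_eq_one_iff]
      refine Nat.eq_one_of_dvd_coprimes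
        (((Nat.Prime.coprime_iff_not_dvd Nat.prime_three).2 hnd).pow_left i) ?_ ?_
      · exact orderOf_dvd_of_pow_eq_one (by
          rw [← QuotientGroup.mk_pow, QuotientGroup.eq_one_iff]; exact h1)
      · rw [index_eq_card]; exact orderOf_dvd_natCard _
    exact hnres
  -- length one
  have hcM : ∀ g ∈ (R : Subgroup C), g ≠ 1 → centralizer ({g} : Set C) ≤ P.M.subgroupOf C := by
    intro g hg hg1 h hh
    obtain ⟨c, -, -, h3⟩ := locR g hg
    refine mem_subgroupOf.2 (P.strong (g : X) (hRM g hg) h3 (fun e => hg1 (Subtype.ext e)) h ?_)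
    have := congrArg Subtype.val (mem_centralizer_singleton_iff.1 hh)
    simp only [coe_mul] at this
    rw [this, mul_inv_cancel_right]
    exact hRM g hg
  have hcoreM : Cfsg.pPrimeCore 3 C ≤ P.M.subgroupOf C := by
    haveI := hab
    haveI := FittingCores.pPrimeCore_normal (G := C) 3
    refine L43Three.CaseB.le_of_coprime hnc R.isPGroup' ?_ ?_ hcM
    · rw [normalizer_eq_top_iff.2 inferInstance]; exact le_top
    · exact (Nat.Prime.coprime_iff_not_dvd Nat.prime_three).1
        (FittingCores.pPrimeCore_coprime (G := C) 3).symm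
  set U2 := PSeries.U 3 C 2 with hU2
  haveI : U2.Normal := (Cfsg.upperPSeries 3 C 2).2
  have h3 : PSeries.U 3 C 3 = ⊤ := hlen
  have hd : U2.index.Coprime 3 := by
    have := (PSeries.step_U (p := 3) (G := C) 2).1 ⟨1, rfl⟩
    rwa [h3, relIndex_top_right] at this
  obtain ⟨m, hm⟩ := (PSeries.step_U (p := 3) (G := C) 1).2 (by decide)
  rw [PSeries.U_one] at hm
  have hRU : (R : Subgroup C) ≤ U2 := fun g hg => by
    obtain ⟨i, hi⟩ := R.isPGroup' ⟨g, hg⟩
    rw [← QuotientGroup.eq_one_iff, ← orderOf_eq_one_iff]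
    refine Nat.eq_one_of_dvd_coprimes (hd.symm.pow_left i) ?_ ?_
    · exact orderOf_dvd_of_pow_eq_one (by
        rw [← QuotientGroup.mk_pow, show g ^ 3 ^ i = 1 from congrArg Subtype.val hi,
          QuotientGroup.mk_one])
    · rw [index_eq_card]; exact orderOf_dvd_natCard _
  have hNU : Cfsg.pPrimeCore 3 C ≤ U2 := by
    rw [← PSeries.U_one]; exact PSeries.U_le_succ 1
  have hle : U2 ≤ Cfsg.pPrimeCore 3 C ⊔ (R : Subgroup C) := by
    rw [← relIndex_eq_one]
    refine Nat.eq_one_of_dvd_coprimes (Nat.Coprime.pow_left m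
      ((Nat.Prime.coprime_iff_not_dvd Nat.prime_three).2 (R.not_dvd_index))) ?_ ?_
    · rw [← hm]; exact relIndex_dvd_of_le_left _ le_sup_left
    · refine dvd_trans ?_ (index_dvd_of_le (le_sup_right : (R : Subgroup C) ≤ Cfsg.pPrimeCore 3 C ⊔ R))
      rw [← relIndex_mul_index (sup_le hNU hRU)]
      exact dvd_mul_right _ _
  intro g hg
  have htop : normalizer ((R : Subgroup C) : Set C) ⊔ U2 = ⊤ := Sylow.normalizer_sup_eq_top' R hRU
  have hall : normalizer ((R : Subgroup C) : Set C) ⊔ U2 ≤ P.M.subgroupOf C := by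
    refine sup_le (fun b hb => ?_) (hle.trans (sup_le hcoreM fun b hb => mem_subgroupOf.2 (hRM b hb)))
    obtain ⟨c, hc, -⟩ := hdich b hb
    exact mem_subgroupOf.2 hc.1
  exact mem_subgroupOf.1 (hall (htop ▸ mem_top (⟨g, hg⟩ : C)))

end Hyp

end Cfsg.Agent.O8Three.Closed
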