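import Cfsg.Agent.Lib.O8Three.Closed.Code
import Mathlib.Data.Finset.Image
import Mathlib.Data.Fintype.Basic

/-!
S3372: kernel-checked facts on the three factor maps for the fusion of involutions.
-/

set_option autoImplicit false
set_option maxRecDepth 100000
set_option maxHeartbeats 4000000
set_option synthInstance.maxSize 1000

namespace Cfsg.Agent.O8Three.Closed

theorem fac0_lt : ∀ v : V, ∀ s, fac0 s v.val < 256 := by decide +kernel

theorem fac1_lt : ∀ v : V, ∀ s, fac1 s v.val < 256 := by decide +kernel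

theorem fac2_lt : ∀ v : V, ∀ s, fac2 s v.val < 256 := by decide +kernel

theorem fac0_mul : ∀ v : V, ∀ s t, fac0 s (fac0 t v.val) = fac0 (mulS s t) v.val := by decide +kernel

theorem fac1_mul : ∀ v : V, ∀ s t, fac1 s (fac1 t v.val) = fac1 (mulS s t) v.val := by decide +kernel

theorem fac2_mul : ∀ v : V, ∀ s t, fac2 s (fac2 t v.val) = fac2 (mulS s t) v.val := by decide +kernel

theorem fac10 : ∀ v : V, ∀ s t, fac1 s (fac0 t v.val) = fac0 t (fac1 s v.val) := by decide +kernel

theorem fac20 : ∀ v : V, ∀ s t, fac2 s (fac0 t v.val) = fac0 t (fac2 s v.val) := by decide +kernel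

theorem fac21 : ∀ v : V, ∀ s t, fac2 s (fac1 t v.val) = fac1 t (fac2 s v.val) := by decide +kernel

/-- A factor map as a map of vectors. -/
def fz (g : ℕ → ℕ) (v : V) : V := ⟨g v.val % 256, Nat.mod_lt _ (by decide)⟩

theorem fz_val {g : ℕ → ℕ} {v : V} (h : g v.val < 256) : (fz g v).val = g v.val := Nat.mod_eq_of_lt h

theorem app_val (c : Code) (v : V) : (app c v).val = appN c v.val := by
  refine Nat.mod_eq_of_lt ?_
  unfold appN
  rw [← fz_val (fac2_lt v c.2.2), ← fz_val (fac1_lt (fz _ v) c.2.1)]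
  exact fac0_lt _ _

/-- **The maps compose as the codes multiply.** -/
theorem app_mul (a b : Code) (v : V) : app (mulC a b) v = app a (app b v) := by
  refine Fin.ext ?_
  rw [app_val, app_val, app_val]
  obtain ⟨a0, a1, a2⟩ := a
  obtain ⟨b0, b1, b2⟩ := b
  show fac0 (mulS a0 b0) (fac1 (mulS a1 b1) (fac2 (mulS a2 b2) v.val)) =
    fac0 a0 (fac1 a1 (fac2 a2 (fac0 b0 (fac1 b1 (fac2 b2 v.val)))))
  set u1 : V := fz (fac2 b2) v with hu1
  have e1 : fac2 b2 v.val = u1.val := (fz_val (fac2_lt v b2)).symm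
  set u2 : V := fz (fac1 b1) u1 with hu2
  have e2 : fac1 b1 u1.val = u2.val := (fz_val (fac1_lt u1 b1)).symm
  set u3 : V := fz (fac2 a2) u2 with hu3
  have e3 : fac2 a2 u2.val = u3.val := (fz_val (fac2_lt u2 a2)).symm
  set u4 : V := fz (fac2 a2) u1 with hu4
  have e4 : fac2 a2 u1.val = u4.val := (fz_val (fac2_lt u1 a2)).symm
  set u5 : V := fz (fac1 (mulS a1 b1)) u4 with hu5
  have e5 : fac1 (mulS a1 b1) u4.val = u5.val := (fz_val (fac1_lt u4 _)).symm
  have h1 : fac2 (mulS a2 b2) v.val = u4.val := by rw [← fac2_mul, e1, e4]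
  have h2 : fac1 a1 u3.val = u5.val := by
    rw [← e3, ← e2, fac21, e4, fac1_mul, e5]
  rw [h1, e1, e2, fac20, e3, fac10, h2, fac0_mul, e5]

/-- Componentwise, commuting involutive codes agree or one is trivial. -/
theorem comm_inv : ∀ s t : Fin 6, mulS s s = 0 → mulS t t = 0 → mulS s t = mulS t s → s = 0 ∨ t = 0 ∨ s = t := by
  decide +kernel

/-- The fixed vectors of a nontrivial involutive code. -/
theorem fix_le : ∀ c : Code, c ≠ eC → mulC c c = eC →
    (Finset.univ.filter fun v : V => app c v = v).card ≤ 16 := by decide +kernel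

/-- The commutators of a nontrivial involutive code. -/
theorem comm_card : ∀ c : Code, c ≠ eC → mulC c c = eC →
    16 ≤ (Finset.univ.image fun v : V => app c v ^^^ v).card := by decide +kernel

/-- The codes which are involutive and fix `r`. -/
def invStab (r : V) (l : List Code) : Prop :=
  ∀ c : Code, mulC c c = eC → app c r = r → c ∈ l

instance (r : V) (l : List Code) : Decidable (invStab r l) := by unfold invStab; infer_instance

/-- No sixteen commuting conjugates of `r` fit into the orbit `o`. -/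
def Tight (r : V) (o : List V) (l : List Code) : Prop :=
  invStab r l ∧
  (∀ v : V, v ≠ 0 → r ^^^ v ∈ o → (o.filter fun u => decide (u ^^^ v ∈ o)).length < 16) ∧
  (∀ d ∈ l, d ≠ eC → (o.filter fun u => decide (app d u = u)).length < 8) ∧
  (∀ d ∈ l, ∀ d' ∈ l, d ≠ eC → d' ≠ eC → d ≠ d' → mulC d d' = mulC d' d →
    (o.filter fun u => decide (app d u = u ∧ app d' u = u)).length < 4 ∧
      (l.filter fun x => decide (mulC x d = mulC d x ∧ mulC x d' = mulC d' x)).length ≤ 4)

/-- The involutive codes fixing `107`. -/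
def inv12 : List Code := stab.filter fun c => decide (mulC c c = eC)

/-- The involutive codes fixing `6`. -/
def inv18a : List Code :=
  ((List.finRange 6).flatMap fun a => (List.finRange 6).flatMap fun b =>
    (List.finRange 6).map fun c => ((a, b, c) : Code)).filter fun c =>
      decide (mulC c c = eC ∧ app c 6 = 6)

theorem tight12 : invStab 107 inv12 ∧
    (∀ v : V, v ≠ 0 → (107 : V) ^^^ v ∈ orb12 → (orb12.filter fun u => decide (u ^^^ v ∈ orb12)).length < 16) ∧
    (∀ d ∈ inv12, d ≠ eC → (orb12.filter fun u => decide (app d u = u)).length < 8) ∧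
    (∀ d ∈ inv12, ∀ d' ∈ inv12, d ≠ eC → d' ≠ eC → d ≠ d' → mulC d d' = mulC d' d →
      (orb12.filter fun u => decide (app d u = u ∧ app d' u = u)).length < 4 ∧
        (inv12.filter fun x => decide (mulC x d = mulC d x ∧ mulC x d' = mulC d' x)).length ≤ 4) := by
  decide +kernel

theorem tight18a : invStab 6 inv18a ∧
    (∀ v : V, v ≠ 0 → (6 : V) ^^^ v ∈ orb18a → (orb18a.filter fun u => decide (u ^^^ v ∈ orb18a)).length < 16) ∧
    (∀ d ∈ inv18a, d ≠ eC → (orb18a.filter fun u => decide (app d u = u)).length < 8) ∧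
    (∀ d ∈ inv18a, ∀ d' ∈ inv18a, d ≠ eC → d' ≠ eC → d ≠ d' → mulC d d' = mulC d' d →
      (orb18a.filter fun u => decide (app d u = u ∧ app d' u = u)).length < 4 ∧
        (inv18a.filter fun x => decide (mulC x d = mulC d x ∧ mulC x d' = mulC d' x)).length ≤ 4) := by
  decide +kernel

end Cfsg.Agent.O8Three.Closed
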