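import Mathlib.Data.Fin.Basic
import Mathlib.Data.Fintype.Prod
import Mathlib.Data.List.Basic

/-!
The group of linear maps of the product of three planes over the field of two elements, three copies of
the symmetric group of degree three: codes and kernel-checked facts.
-/

set_option autoImplicit false
set_option maxRecDepth 100000
set_option maxHeartbeats 4000000
set_option synthInstance.maxSize 1000

namespace Cfsg.Agent.O8Three.Closed

/-- Vectors: the bit with number `i + 2 * j + 4 * k` is the coordinate `(i, j, k)`. -/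
abbrev V : Type := Fin 256

/-- Three maps of the plane. -/
abbrev Code : Type := Fin 6 × Fin 6 × Fin 6

/-- The six invertible maps of the plane. -/
def pair (s : Fin 6) (lo hi : ℕ) : ℕ × ℕ :=
  match s.val with
  | 0 => (lo, hi)
  | 1 => (hi, lo)
  | 2 => (lo ^^^ hi, hi)
  | 3 => (lo, lo ^^^ hi)
  | 4 => (hi, lo ^^^ hi)
  | _ => (lo ^^^ hi, lo)

/-- A map of the plane on the factor with coordinate masks `mask` and shift `sh`. -/
def factor (mask sh : ℕ) (s : Fin 6) (v : ℕ) : ℕ :=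
  let p := pair s (v &&& mask) ((v >>> sh) &&& mask)
  p.1 ||| (p.2 <<< sh)

/-- The maps on the first factor. -/
def fac0 : Fin 6 → ℕ → ℕ := factor 85 1

/-- The maps on the second factor. -/
def fac1 : Fin 6 → ℕ → ℕ := factor 51 2

/-- The maps on the third factor. -/
def fac2 : Fin 6 → ℕ → ℕ := factor 15 4

/-- The map with a given code, on natural numbers. -/
def appN (c : Code) (v : ℕ) : ℕ := fac0 c.1 (fac1 c.2.1 (fac2 c.2.2 v))

/-- The map with a given code. -/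
def app (c : Code) (v : V) : V := ⟨appN c v.val % 256, Nat.mod_lt _ (by decide)⟩

/-- The values of a map on the unit vectors. -/
def key (f : V → V) : List V := ([1, 2, 4, 8, 16, 32, 64, 128] : List V).map f

/-- The product of two maps of the plane. -/
def mulS (a b : Fin 6) : Fin 6 :=
  (([[0, 1, 2, 3, 4, 5], [1, 0, 4, 5, 2, 3], [2, 5, 0, 4, 3, 1], [3, 4, 5, 0, 1, 2], [4, 3, 1, 2, 5, 0], [5, 2, 3, 1, 0, 4]] : List (List (Fin 6))).getD a.val []).getD b.val 0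

/-- The product of two codes. -/
def mulC (a b : Code) : Code := (mulS a.1 b.1, mulS a.2.1 b.2.1, mulS a.2.2 b.2.2)

/-- The neutral code. -/
def eC : Code := (0, 0, 0)

/-- An involution in the stabiliser of the base vector. -/
def tC : Code := (1, 1, 2)

/-- The base vector of the orbit of length twelve. -/
def r12 : V := 107

/-- The stabiliser of the base vector. -/
def stab : List Code := [
  (0, 0, 0), (0, 4, 5), (0, 5, 4), (1, 1, 2), (1, 2, 1), (1, 3, 3), (2, 1, 3), (2, 2, 2),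
  (2, 3, 1), (3, 1, 1), (3, 2, 3), (3, 3, 2), (4, 0, 4), (4, 4, 0), (4, 5, 5), (5, 0, 5),
  (5, 4, 4), (5, 5, 0)]

/-- The elementary group of order nine in the stabiliser. -/
def sylE : List Code := [
  (0, 0, 0), (0, 4, 5), (0, 5, 4), (4, 0, 4), (4, 4, 0), (4, 5, 5), (5, 0, 5), (5, 4, 4), (5, 5, 0)]

/-- Witnesses for the orbit of `107`. -/
def wit12 : List Code := [
  (0, 0, 0), (0, 0, 2), (0, 1, 4), (0, 1, 3), (0, 1, 2), (0, 1, 0), (0, 0, 1), (0, 0, 5),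
  (0, 0, 4), (0, 0, 3), (0, 1, 5), (0, 1, 1)]

/-- The orbit of `107`. -/
def orb12 : List V :=
  [107, 109, 121, 126, 151, 158, 182, 189, 214, 219, 231, 233]

theorem orb12_eq : orb12 = wit12.map (fun c => app c 107) := by decide +kernel

/-- Witnesses for the orbit of `6`. -/
def wit18a : List Code := [
  (0, 0, 0), (0, 2, 0), (0, 1, 0), (0, 5, 0), (0, 4, 0), (0, 3, 0), (0, 0, 1), (0, 0, 3),
  (0, 2, 1), (0, 2, 3), (0, 1, 1), (0, 1, 3), (0, 5, 1), (0, 5, 3), (0, 4, 1), (0, 4, 3),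
  (0, 3, 1), (0, 3, 3)]

/-- The orbit of `6`. -/
def orb18a : List V :=
  [6, 7, 9, 11, 13, 14, 96, 102, 112, 119, 144, 153, 176, 187, 208, 221, 224, 238]

theorem orb18a_eq : orb18a = wit18a.map (fun c => app c 6) := by decide +kernel

/-- Witnesses for the orbit of `18`. -/
def wit18b : List Code := [
  (0, 0, 0), (0, 0, 2), (0, 0, 1), (0, 0, 5), (0, 0, 4), (0, 0, 3), (0, 1, 0), (0, 1, 2),
  (0, 3, 0), (0, 3, 2), (0, 1, 1), (0, 1, 5), (0, 3, 1), (0, 3, 5), (0, 1, 4), (0, 1, 3),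
  (0, 3, 4), (0, 3, 3)]

/-- The orbit of `18`. -/
def orb18b : List V :=
  [18, 19, 33, 35, 49, 50, 72, 76, 90, 95, 132, 140, 165, 175, 196, 200, 245, 250]

theorem orb18b_eq : orb18b = wit18b.map (fun c => app c 18) := by decide +kernel

/-- Witnesses for the orbit of `20`. -/
def wit18c : List Code := [
  (0, 0, 0), (0, 0, 2), (1, 0, 0), (1, 0, 2), (3, 0, 0), (3, 0, 2), (0, 0, 1), (0, 0, 5),
  (0, 0, 4), (0, 0, 3), (1, 0, 1), (1, 0, 5), (1, 0, 4), (1, 0, 3), (3, 0, 1), (3, 0, 5),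
  (3, 0, 4), (3, 0, 3)]

/-- The orbit of `20`. -/
def orb18c : List V :=
  [20, 21, 40, 42, 60, 63, 65, 69, 81, 84, 130, 138, 162, 168, 195, 207, 243, 252]

theorem orb18c_eq : orb18c = wit18c.map (fun c => app c 20) := by decide +kernel

/-- Witnesses for the orbit of `24`. -/
def wit108 : List Code := [
  (0, 0, 0), (0, 0, 2), (0, 2, 0), (0, 2, 2), (2, 0, 0), (2, 0, 2), (2, 2, 2), (2, 2, 0),
  (0, 1, 1), (0, 5, 1), (0, 1, 5), (0, 5, 5), (3, 1, 1), (3, 5, 5), (3, 1, 5), (3, 5, 1),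
  (2, 1, 1), (2, 5, 1), (2, 5, 5), (2, 1, 5), (3, 0, 0), (3, 2, 2), (3, 2, 0), (3, 0, 2),
  (0, 1, 0), (2, 1, 0), (0, 1, 2), (2, 1, 2), (0, 4, 0), (2, 4, 2), (0, 4, 2), (2, 4, 0),
  (0, 5, 0), (2, 5, 0), (2, 5, 2), (0, 5, 2), (0, 3, 0), (2, 3, 2), (2, 3, 0), (0, 3, 2),
  (0, 1, 3), (2, 5, 3), (0, 1, 4), (2, 5, 4), (3, 4, 3), (3, 4, 4), (0, 5, 3), (2, 1, 3),
  (2, 1, 4), (0, 5, 4), (3, 3, 3), (3, 3, 4), (0, 0, 1), (3, 0, 1), (0, 3, 1), (3, 3, 5),
  (0, 0, 5), (3, 0, 5), (0, 3, 5), (3, 3, 1), (0, 0, 4), (3, 2, 4), (2, 3, 4), (0, 0, 3),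
  (3, 2, 3), (2, 3, 3), (0, 2, 1), (3, 2, 1), (0, 4, 1), (3, 4, 5), (3, 2, 5), (0, 2, 5),
  (3, 4, 1), (0, 4, 5), (0, 2, 4), (3, 0, 4), (2, 4, 4), (3, 0, 3), (0, 2, 3), (2, 4, 3),
  (2, 0, 1), (3, 1, 0), (2, 3, 1), (3, 4, 2), (2, 3, 5), (3, 4, 0), (2, 0, 5), (3, 1, 2),
  (2, 0, 4), (3, 5, 3), (0, 3, 4), (0, 3, 3), (2, 0, 3), (3, 5, 4), (2, 2, 4), (3, 1, 3),
  (0, 4, 4), (0, 4, 3), (3, 1, 4), (2, 2, 3), (2, 2, 1), (3, 5, 0), (2, 4, 1), (3, 3, 2),
  (3, 3, 0), (2, 4, 5), (3, 5, 2), (2, 2, 5)]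

/-- The orbit of `24`. -/
def orb108 : List V :=
  [24, 25, 26, 27, 28, 29, 30, 31, 36, 37, 38, 39, 44, 45, 46, 47, 52, 53, 54, 55, 56, 57, 58, 59, 66, 67, 70, 71, 74, 75, 78, 79, 82, 83, 86, 87, 88, 89, 92, 93, 98, 99, 100, 101, 106, 108, 114, 115, 116, 117, 120, 127, 129, 131, 133, 135, 137, 139, 141, 143, 145, 147, 149, 152, 154, 156, 161, 163, 164, 166, 169, 171, 172, 174, 177, 179, 180, 184, 186, 191, 193, 194, 197, 198, 201, 202, 205, 206, 209, 210, 213, 216, 220, 223, 225, 226, 228, 234, 236, 239, 241, 242, 244, 247, 248, 251, 253, 254]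

theorem orb108_eq : orb108 = wit108.map (fun c => app c 24) := by decide +kernel

/-- The orbit lists. -/
def orbits : List (List V) := [orb12, orb18a, orb18b, orb18c, orb108]

theorem fac0_mem : ∀ o ∈ orbits, ∀ v ∈ o.map Fin.val, ∀ s, fac0 s v ∈ o.map Fin.val := by decide +kernel

theorem fac1_mem : ∀ o ∈ orbits, ∀ v ∈ o.map Fin.val, ∀ s, fac1 s v ∈ o.map Fin.val := by decide +kernel

theorem fac2_mem : ∀ o ∈ orbits, ∀ v ∈ o.map Fin.val, ∀ s, fac2 s v ∈ o.map Fin.val := by decide +kernel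

/-- The maps preserve the orbit lists. -/
theorem app_mem {o : List V} (ho : o ∈ orbits) (c : Code) {v : V} (hv : v ∈ o) : app c v ∈ o := by
  have h : appN c v.val ∈ o.map Fin.val :=
    fac0_mem o ho _ (fac1_mem o ho _ (fac2_mem o ho _ (List.mem_map_of_mem hv) _) _) _
  obtain ⟨u, hu, e⟩ := List.mem_map.1 h
  have e2 : app c v = u := Fin.ext (by show appN c v.val % 256 = u.val; rw [← e, Nat.mod_eq_of_lt u.isLt])
  rwa [e2]

theorem stab_complete : ∀ c : Code, app c r12 = r12 → c ∈ stab := by decide +kernel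

theorem stab_fix : ∀ c ∈ stab, app c r12 = r12 := by decide +kernel

theorem key_inj : ∀ c d : Code, key (app c) = key (app d) → c = d := by decide +kernel

theorem mulC_key : ∀ a ∈ stab, ∀ b ∈ stab,
    key (app (mulC a b)) = key (fun v => app a (app b v)) := by decide +kernel

theorem mulC_mem : ∀ a ∈ stab, ∀ b ∈ stab, mulC a b ∈ stab := by decide +kernel

theorem key_eC : key (app eC) = key id := by decide +kernel

theorem mulC_six : ∀ c ∈ stab,
    mulC (mulC c c) (mulC (mulC c c) (mulC c c)) = eC := by decide +kernel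

theorem sylE_sub : ∀ d ∈ sylE, d ∈ stab := by decide +kernel

theorem sylE_of_cube : ∀ c ∈ stab, mulC c (mulC c c) = eC → c ∈ sylE := by decide +kernel

theorem sylE_cube : ∀ c ∈ sylE, mulC c (mulC c c) = eC := by decide +kernel

theorem sylE_comm : ∀ c ∈ sylE, ∀ d ∈ sylE, mulC c d = mulC d c := by decide +kernel

theorem sylE_inv : ∀ c ∈ stab, c ∉ sylE → ∀ d ∈ sylE, mulC c d = mulC (mulC d d) c := by
  decide +kernel

theorem sylE_mul : ∀ c ∈ sylE, ∀ d ∈ sylE, mulC c d ∈ sylE := by decide +kernel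

theorem sylE_normal : ∀ c ∈ stab, ∀ d ∈ sylE, ∀ d' ∈ stab, mulC c d = mulC d' c → d' ∈ sylE := by
  decide +kernel

theorem sylE_coset : ∀ c ∈ sylE, mulC c tC ∉ sylE := by decide +kernel

theorem sylE_two : (4, 0, 4) ∈ sylE ∧ (0, 4, 5) ∈ sylE ∧ tC ∈ stab := by decide +kernel

/-- The steps to the orbits of length eighteen. -/
theorem iso18a : ∀ v ∈ orb12, v ^^^ 6 ∈ orb12 → v = 107 ∨ v = 107 ^^^ 6 := by decide +kernel

theorem iso18b : ∀ v ∈ orb12, v ^^^ 18 ∈ orb12 → v = 107 ∨ v = 107 ^^^ 18 := by decide +kernel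

theorem iso18c : ∀ v ∈ orb12, v ^^^ 20 ∈ orb12 → v = 109 ∨ v = 109 ^^^ 20 := by decide +kernel

/-- The step to the orbit of length 108. -/
theorem iso108 : ∀ v ∈ orb12, v ^^^ 24 ∈ orb18a → v = 126 ∨ v = 126 ^^^ 24 := by decide +kernel

/-- The last step. -/
theorem last_step : ∀ v ∈ orb12 ++ orb18a, v ≠ 107 →
    (107 : V) ^^^ v ∈ orb12 ++ orb18a ++ orb18b ++ orb18c ++ orb108 := by decide +kernel

theorem orb_disjoint : ∀ v ∈ orb12, v ∉ orb18a := by decide +kernel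

/-- The members used. -/
theorem members : (107 : V) ∈ orb12 ∧ (182 : V) ∈ orb12 ∧ (109 : V) ∈ orb12 ∧ (158 : V) ∈ orb12 ∧
    (126 : V) ∈ orb12 ∧ (6 : V) ∈ orb18a ∧ (126 : V) ^^^ 24 ∈ orb18a ∧ (107 : V) ^^^ 6 ∈ orb12 ∧
    (107 : V) ^^^ 18 ∈ orb12 ∧ (109 : V) ^^^ 20 ∈ orb12 ∧ (107 : V) ^^^ 182 ^^^ 6 ∈ orb12 ∧
    (107 : V) ^^^ 158 ^^^ 18 ∈ orb12 ∧ (109 : V) ^^^ 158 ^^^ 20 ∈ orb12 ∧
    (126 : V) ^^^ 6 ^^^ 24 ∈ orb18a := by decide +kernel

end Cfsg.Agent.O8Three.Closed
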