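import Cfsg.Agent.Lib.O8Three.Closed.Base
import Cfsg.Agent.Lib.O8Three.Closed.Cert
import Mathlib.Algebra.Order.BigOperators.Group.Finset

/-!
S3372: once the centraliser of a vector lies in `M`, so does every element carrying it to an involution of `M`.
-/

set_option autoImplicit false
set_option linter.style.haveILetI false

namespace Cfsg.Agent.O8Three.Closed

open Subgroup Finset

universe u

/-- Pairwise commuting involutive codes differ in at most three signs. -/
theorem card_comm_le {A : Finset Code} (hinv : ∀ c ∈ A, mulC c c = eC)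
    (hc : ∀ c ∈ A, ∀ d ∈ A, mulC c d = mulC d c) : A.card ≤ 8 := by
  let g : Code → Bool × Bool × Bool := fun c => (c.1 == 0, c.2.1 == 0, c.2.2 == 0)
  have hinj : Set.InjOn g (A : Set Code) := by
    intro c hcA d hdA e
    obtain ⟨c0, c1, c2⟩ := c
    obtain ⟨d0, d1, d2⟩ := d
    have h1 := hinv _ (mem_coe.1 hcA)
    have h2 := hinv _ (mem_coe.1 hdA)
    have h3 := hc _ (mem_coe.1 hcA) _ (mem_coe.1 hdA)
    simp only [mulC, eC, Prod.mk.injEq] at h1 h2 h3
    simp only [g, Prod.mk.injEq] at e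
    have key : ∀ s t : Fin 6, mulS s s = 0 → mulS t t = 0 → mulS s t = mulS t s →
        (s == 0) = (t == 0) → s = t := by decide +kernel
    rw [key _ _ h1.1 h2.1 h3.1 e.1, key _ _ h1.2.1 h2.2.1 h3.2.1 e.2.1, key _ _ h1.2.2 h2.2.2 h3.2.2 e.2.2]
  exact (card_le_card_of_injOn g (fun c _ => mem_coe.2 (Finset.mem_univ _)) hinj).trans
    (by decide : (Finset.univ : Finset (Bool × Bool × Bool)).card ≤ 8)

theorem comm_fix (c : Code) (h : mulC c c = eC) (v : V) : app c (app c v) = v := by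
  rw [← app_mul, h, app_eC]

namespace Hyp

variable {X : Type u} [Group X] (P : Hyp X)

theorem acts_eq {g : X} {c : Code} (h : P.Acts g c) (v : V) : g * P.f v = P.f (app c v) * g := by
  rw [← h v, inv_mul_cancel_right]

theorem acts_comp {m n : X} {a b : Code} (ha : P.Acts m a) (hb : P.Acts n b) :
    P.Acts (m * n) (mulC a b) := fun v => by
  rw [app_mul]
  exact P.acts_mul ha hb v

theorem acts_one : P.Acts 1 eC := fun v => by rw [app_eC, one_mul, inv_one, mul_one]

theorem acts_f (u : V) : P.Acts (P.f u) eC := fun v => by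
  rw [app_eC, P.f_comm u v, mul_inv_cancel_right]

theorem code_inv {m : X} {c : Code} (h : P.Acts m c) (h2 : m * m = 1) : mulC c c = eC :=
  P.acts_unique (P.acts_comp h h) (h2 ▸ P.acts_one)

theorem code_comm {m n : X} {a b : Code} (ha : P.Acts m a) (hb : P.Acts n b) (h : m * n = n * m) :
    mulC a b = mulC b a :=
  P.acts_unique (P.acts_comp ha hb) (h ▸ P.acts_comp hb ha)

theorem mem_f_of_eC {m : X} (hm : m ∈ P.M) (h : P.Acts m eC) : ∃ v, P.f v = m :=
  P.cen m hm fun v => by
    have e := P.acts_eq h v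
    rwa [app_eC] at e

theorem fixed_of_comm {m : X} {c : Code} (h : P.Acts m c) {v : V} (e : m * P.f v = P.f v * m) :
    app c v = v := P.f_inj (by rw [← h, e, mul_inv_cancel_right])

variable [Finite X]

/-- An element carrying `f V` into `M` normalises it. -/
theorem maps_to {g : X} (hg : ∀ v, g * P.f v * g⁻¹ ∈ P.M) : ∀ v, ∃ u, g * P.f v * g⁻¹ = P.f u := by
  classical
  choose d hd using fun v => P.act _ (hg v)
  set t : V → X := fun v => g * P.f v * g⁻¹ with ht
  have hmul : ∀ v w, t v * t w = t (v ^^^ w) := fun v w => by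
    simp only [ht, P.f_xor]; group
  have hsq : ∀ v, t v * t v = 1 := fun v => by
    simp only [ht]
    calc g * P.f v * g⁻¹ * (g * P.f v * g⁻¹) = g * (P.f v * P.f v) * g⁻¹ := by group
      _ = 1 := by rw [P.f_self]; group
  have hcomm : ∀ v w, t v * t w = t w * t v := fun v w => by
    simp only [ht]
    calc g * P.f v * g⁻¹ * (g * P.f w * g⁻¹) = g * (P.f v * P.f w) * g⁻¹ := by group
      _ = _ := by rw [P.f_comm]; group
  by_contra hne
  push Not at hne
  obtain ⟨v0, hv0⟩ := hne
  have hd0 : d v0 ≠ eC := fun e => by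
    obtain ⟨u, hu⟩ := P.mem_f_of_eC (hg v0) (e ▸ hd v0)
    exact hv0 u hu.symm
  have h8 : ((Finset.univ : Finset V).image d).card ≤ 8 := by
    refine card_comm_le ?_ ?_
    · intro c hc
      obtain ⟨v, -, rfl⟩ := mem_image.1 hc
      exact P.code_inv (hd v) (hsq v)
    · intro c hc e he
      obtain ⟨v, -, rfl⟩ := mem_image.1 hc
      obtain ⟨w, -, rfl⟩ := mem_image.1 he
      exact P.code_comm (hd v) (hd w) (hcomm v w)
  have hfib : ∀ b ∈ (Finset.univ : Finset V).image d, (univ.filter fun v => d v = b).card ≤ 16 := by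
    intro b hb
    obtain ⟨w, -, rfl⟩ := mem_image.1 hb
    have key : ∀ v, d v = d w → ∃ u, P.f u = t (v ^^^ w) := fun v hv => by
      refine P.mem_f_of_eC (hg _) ?_
      have h1 := P.acts_comp (hd v) (hd w)
      rw [hmul, hv, P.code_inv (hd w) (hsq w)] at h1
      exact h1
    choose τ hτ using key
    refine le_trans ?_ (fix_le (d v0) hd0 (P.code_inv (hd v0) (hsq v0)))
    refine Finset.card_le_card_of_injOn (fun v => if h : d v = d w then τ v h else 0) ?_ ?_
    · intro v hv
      have hv' : d v = d w := (mem_filter.1 (mem_coe.1 hv)).2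
      simp only [dif_pos hv']
      refine mem_coe.2 (mem_filter.2 ⟨Finset.mem_univ _, P.fixed_of_comm (hd v0) ?_⟩)
      rw [hτ]
      exact hcomm v0 _
    · intro v hv v' hv' e
      have h1 : d v = d w := (mem_filter.1 (mem_coe.1 hv)).2
      have h2 : d v' = d w := (mem_filter.1 (mem_coe.1 hv')).2
      simp only [dif_pos h1, dif_pos h2] at e
      have e2 := (hτ v h1).symm.trans ((congrArg P.f e).trans (hτ v' h2))
      simp only [ht] at e2
      have e3 := P.f_inj (mul_left_cancel (mul_right_cancel e2))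
      have := congrArg (fun z => z ^^^ w) e3
      simp only [Fin.ext_iff, Fin.xor_val_of_two_pow (w := 8), Nat.xor_assoc, Nat.xor_self,
        Nat.xor_zero] at this
      exact Fin.ext this
  have := card_le_mul_card_image (Finset.univ : Finset V) 16 hfib
  rw [Finset.card_univ, Fintype.card_fin] at this
  omega

/-- The normaliser of `f V` is `M`. -/
theorem normalizer_le (hC : centralizer ({P.f r12} : Set X) ≤ P.M) {g : X}
    (hg : ∀ v, ∃ u, g * P.f v * g⁻¹ = P.f u) : g ∈ P.M := by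
  classical
  by_contra hgM
  choose σ hσ using hg
  -- an element moving a member of the orbit inside it lies in `M`
  have inorb : ∀ x : X, ∀ u ∈ orb12, ∀ v ∈ orb12, x * P.f u * x⁻¹ = P.f v → x ∈ P.M := by
    intro x u hu v hv e
    obtain ⟨cu, -, hcu⟩ := List.mem_map.1 (orb12_eq ▸ hu)
    obtain ⟨cv, -, hcv⟩ := List.mem_map.1 (orb12_eq ▸ hv)
    obtain ⟨mu, hmu, eu⟩ := P.real cu
    obtain ⟨mv, hmv, ev⟩ := P.real cv
    replace hcu : app cu r12 = u := hcu
    replace hcv : app cv r12 = v := hcv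
    have h1 : mv⁻¹ * x * mu ∈ P.M := hC (mem_centralizer_singleton_iff.2 (by
      calc mv⁻¹ * x * mu * P.f r12 = mv⁻¹ * (x * (mu * P.f r12 * mu⁻¹) * x⁻¹) * (x * mu) := by group
        _ = mv⁻¹ * (mv * P.f r12 * mv⁻¹) * (x * mu) := by rw [eu, hcu, e, ev, hcv]
        _ = P.f r12 * (mv⁻¹ * x * mu) := by group))
    have h3 := mul_mem (mul_mem hmv h1) (inv_mem hmu)
    rwa [show mv * (mv⁻¹ * x * mu) * mu⁻¹ = x by group] at h3
  -- the elements of order three
  let E : Finset Code := Finset.univ.filter fun c => mulC c (mulC c c) = eC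
  have hE : E.card = 27 := by decide +kernel
  have lift : ∀ c ∈ E, ∃ m ∈ P.M, P.Acts m c := fun c _ => P.real c
  choose m hm hma using lift
  let img : {c // c ∈ E} × {v // v ∈ orb12.toFinset} → V := fun p => app p.1.1 (σ p.2.1)
  have himg : Function.Injective img := by
    rintro ⟨⟨c, hc⟩, ⟨v, hv⟩⟩ ⟨⟨c', hc'⟩, ⟨v', hv'⟩⟩ e
    simp only [img] at e
    have h1 : m c hc * g * P.f v * (m c hc * g)⁻¹ = m c' hc' * g * P.f v' * (m c' hc' * g)⁻¹ := by
      rw [show m c hc * g * P.f v * (m c hc * g)⁻¹ = m c hc * (g * P.f v * g⁻¹) * (m c hc)⁻¹ by group,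
        show m c' hc' * g * P.f v' * (m c' hc' * g)⁻¹ = m c' hc' * (g * P.f v' * g⁻¹) * (m c' hc')⁻¹
          by group, hσ, hσ, hma c hc, hma c' hc', e]
    set x := (m c' hc' * g)⁻¹ * (m c hc * g) with hx
    have hxM : x ∈ P.M := inorb x v (List.mem_toFinset.1 hv) v' (List.mem_toFinset.1 hv') (by
      calc x * P.f v * x⁻¹
          = (m c' hc' * g)⁻¹ * (m c hc * g * P.f v * (m c hc * g)⁻¹) * (m c' hc' * g) := by
            rw [hx]; group
        _ = P.f v' := by rw [h1]; group)
    set y := (m c' hc')⁻¹ * m c hc with hy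
    have hyM : y ∈ P.M := mul_mem (inv_mem (hm c' hc')) (hm c hc)
    have hxy : x = g⁻¹ * y * g := by rw [hx, hy]; group
    obtain ⟨cy, hcy⟩ := P.act y hyM
    have hcc : mulC c' cy = c := P.acts_unique (P.acts_comp (hma c' hc') hcy) (by
      rw [hy, mul_inv_cancel_left]; exact hma c hc)
    by_cases hce : c = c'
    · subst hce
      have h2 : P.f v = P.f v' :=
        mul_left_cancel (a := m c hc * g) (mul_right_cancel h1)
      exact Prod.ext rfl (Subtype.ext (P.f_inj h2))
    -- a power of `y` of order three moves `g` into `M`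
    exfalso
    have hk : ∀ a ∈ E, ∀ b ∈ E, ∀ k : Code, mulC a k = b → k ∈ E := by
      intro a ha b hb k e
      simp only [E, mem_filter, Finset.mem_univ, true_and] at ha hb ⊢
      obtain ⟨a0, a1, a2⟩ := a
      obtain ⟨b0, b1, b2⟩ := b
      obtain ⟨k0, k1, k2⟩ := k
      simp only [mulC, eC, Prod.mk.injEq] at ha hb e ⊢
      have key : ∀ a b k : Fin 6, mulS a (mulS a a) = 0 → mulS b (mulS b b) = 0 → mulS a k = b →
          mulS k (mulS k k) = 0 := by decide +kernel
      exact ⟨key _ _ _ ha.1 hb.1 e.1, key _ _ _ ha.2.1 hb.2.1 e.2.1, key _ _ _ ha.2.2 hb.2.2 e.2.2⟩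
    have hcyE : cy ∈ E := hk c' hc' c hc cy hcc
    have hcy3 : mulC cy (mulC cy cy) = eC := (mem_filter.1 hcyE).2
    have h3 : P.Acts (y * (y * y)) eC := hcy3 ▸ P.acts_comp hcy (P.acts_comp hcy hcy)
    obtain ⟨u, hu⟩ := P.mem_f_of_eC (mul_mem hyM (mul_mem hyM hyM)) h3
    set z := y * (y * (y * y)) with hz
    have hz3 : z ^ 3 = 1 := by
      have h6 : y * (y * y) * (y * (y * y)) = 1 := by rw [← hu, P.f_self]
      calc z ^ 3 = (y * (y * y) * (y * (y * y))) * (y * (y * y) * (y * (y * y))) := by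
            rw [hz, pow_three]; group
        _ = 1 := by rw [h6, one_mul]
    have hz1 : z ≠ 1 := by
      intro e1
      have h4 : P.Acts z (mulC cy eC) := P.acts_comp hcy h3
      rw [e1] at h4
      have he : cy = eC := by
        have := P.acts_unique h4 P.acts_one
        rwa [show mulC cy eC = cy from
          (by decide +kernel : ∀ k : Code, mulC k eC = k) cy] at this
      rw [he] at hcc
      exact hce (hcc.symm.trans ((by decide +kernel : ∀ k : Code, mulC k eC = k) c'))
    have hzM : g⁻¹ * z * g ∈ P.M := by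
      have e4 : g⁻¹ * z * g = x * (x * (x * x)) := by rw [hz, hxy]; group
      rw [e4]
      exact mul_mem hxM (mul_mem hxM (mul_mem hxM hxM))
    have hzinM : z ∈ P.M := mul_mem hyM (mul_mem hyM (mul_mem hyM hyM))
    have := P.strong z hzinM hz3 hz1 g⁻¹ (by rwa [inv_inv])
    exact hgM (by simpa using inv_mem this)
  have hcard := Fintype.card_le_of_injective img himg
  rw [Fintype.card_prod, Fintype.card_coe, Fintype.card_coe, hE, Fintype.card_fin,
    show orb12.toFinset.card = 12 by decide +kernel] at hcard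
  omega

/-- An element carrying into `f V` a vector whose centraliser lies in `M` lies in `M`. -/
theorem fullW (hC : centralizer ({P.f r12} : Set X) ≤ P.M) {r : V}
    (hr : centralizer ({P.f r} : Set X) ≤ P.M) {g : X} {v : V} (e : g * P.f r * g⁻¹ = P.f v) :
    g ∈ P.M := by
  have h : ∀ w, g⁻¹ * P.f w * g⁻¹⁻¹ ∈ P.M := fun w => hr (mem_centralizer_singleton_iff.2 (by
    calc g⁻¹ * P.f w * g⁻¹⁻¹ * P.f r = g⁻¹ * (P.f w * (g * P.f r * g⁻¹)) * g := by group
      _ = g⁻¹ * (g * P.f r * g⁻¹ * P.f w) * g := by rw [e, P.f_comm]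
      _ = P.f r * (g⁻¹ * P.f w * g⁻¹⁻¹) := by group))
  simpa using inv_mem (P.normalizer_le hC (P.maps_to h))

/-- **Fusion into `M`.** -/
theorem full_of_tight (hC : centralizer ({P.f r12} : Set X) ≤ P.M) {r : V} {o : List V} {l : List Code}
    (ho : o ∈ orbits) (hro : r ∈ o) (hr : centralizer ({P.f r} : Set X) ≤ P.M) (hT : Tight r o l) :
    P.Full (P.f r) := by
  classical
  intro g hg
  obtain ⟨hl, hT0, hT1, hT2⟩ := hT
  set y := g * P.f r * g⁻¹ with hy
  obtain ⟨c, hc⟩ := P.act y hg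
  by_cases hce : c = eC
  · obtain ⟨v, hv⟩ := P.mem_f_of_eC hg (hce ▸ hc)
    exact P.fullW hC hr (hy.symm.trans hv.symm)
  exfalso
  have hyy : y * y = 1 := by
    calc y * y = g * (P.f r * P.f r) * g⁻¹ := by rw [hy]; group
      _ = 1 := by rw [P.f_self]; group
  have hcc : mulC c c = eC := P.code_inv hc hyy
  have hyinv : y⁻¹ = y := inv_eq_of_mul_eq_one_right hyy
  set S : Finset V := Finset.univ.image fun v : V => app c v ^^^ v with hS
  have hS16 : 16 ≤ S.card := comm_card c hce hcc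
  have clin : ∀ a b, app c (a ^^^ b) = app c a ^^^ app c b := fun a b => P.f_inj (by
    rw [P.f_xor, ← hc, ← hc, ← hc, P.f_xor]; group)
  have hSxor : ∀ s ∈ S, ∀ s' ∈ S, s ^^^ s' ∈ S := by
    intro s hs s' hs'
    obtain ⟨a, -, rfl⟩ := mem_image.1 hs
    obtain ⟨b, -, rfl⟩ := mem_image.1 hs'
    refine mem_image.2 ⟨a ^^^ b, Finset.mem_univ _, ?_⟩
    rw [clin]
    simp only [Fin.ext_iff, Fin.xor_val_of_two_pow (w := 8), Nat.xor_assoc]
    congr 1
    rw [← Nat.xor_assoc, Nat.xor_comm (app c b).val a.val, Nat.xor_assoc]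
  -- the pulled back elements
  set ψ : V → X := fun s => g⁻¹ * P.f s * g with hψ
  have ψmul : ∀ a b, ψ a * ψ b = ψ (a ^^^ b) := fun a b => by simp only [hψ, P.f_xor]; group
  have ψsq : ∀ a, ψ a * ψ a = 1 := fun a => by
    simp only [hψ]
    calc g⁻¹ * P.f a * g * (g⁻¹ * P.f a * g) = g⁻¹ * (P.f a * P.f a) * g := by group
      _ = 1 := by rw [P.f_self]; group
  have ψcomm : ∀ a b, ψ a * ψ b = ψ b * ψ a := fun a b => by
    simp only [hψ]
    calc g⁻¹ * P.f a * g * (g⁻¹ * P.f b * g) = g⁻¹ * (P.f a * P.f b) * g := by group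
      _ = _ := by rw [P.f_comm]; group
  have hfix : ∀ s ∈ S, app c s = s := by
    intro s hs
    obtain ⟨a, -, rfl⟩ := mem_image.1 hs
    rw [clin, comm_fix c hcc a]
    exact Fin.ext (by simp [Fin.xor_val_of_two_pow (w := 8), Nat.xor_comm])
  have ψr : ∀ s ∈ S, ψ s * P.f r = P.f r * ψ s := by
    intro s hs
    have h1 := P.acts_eq hc s
    rw [hfix s hs] at h1
    simp only [hψ]
    calc g⁻¹ * P.f s * g * P.f r = g⁻¹ * (P.f s * (g * P.f r * g⁻¹)) * g := by group
      _ = g⁻¹ * (g * P.f r * g⁻¹ * P.f s) * g := by rw [← hy, h1]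
      _ = P.f r * (g⁻¹ * P.f s * g) := by group
  have ψM : ∀ s ∈ S, ψ s ∈ P.M := fun s hs => hr (mem_centralizer_singleton_iff.2 (ψr s hs))
  choose! d hd using fun s hs => P.act (ψ s) (ψM s hs)
  have hdl : ∀ s ∈ S, d s ∈ l := fun s hs =>
    hl _ (P.code_inv (hd s hs) (ψsq s)) (P.fixed_of_comm (hd s hs) (ψr s hs))
  have hdc : ∀ s ∈ S, ∀ s' ∈ S, mulC (d s) (d s') = mulC (d s') (d s) := fun s hs s' hs' =>
    P.code_comm (hd s hs) (hd s' hs') (ψcomm s s')
  set S0 := S.filter fun s => d s = eC with hS0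
  have hτ : ∀ s, s ∈ S0 → ∃ u, P.f u = ψ s := fun s hs => by
    obtain ⟨h1, h2⟩ := mem_filter.1 hs
    exact P.mem_f_of_eC (ψM s h1) (h2 ▸ hd s h1)
  choose! τ hτ using hτ
  have τinj : ∀ s ∈ S0, ∀ s' ∈ S0, τ s = τ s' → s = s' := fun s hs s' hs' e => by
    have h1 := (hτ s hs).symm.trans ((congrArg P.f e).trans (hτ s' hs'))
    simp only [hψ] at h1
    exact P.f_inj (mul_left_cancel (mul_right_cancel h1))
  -- the conjugates in the coset lie in the orbit
  have horb : ∀ s ∈ S0, r ^^^ τ s ∈ o := by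
    intro s hs
    obtain ⟨a, -, ha⟩ := mem_image.1 (mem_filter.1 hs).1
    set k := g⁻¹ * P.f a * g with hk
    have e : k * P.f r * k⁻¹ = P.f (r ^^^ τ s) := by
      rw [P.f_xor r (τ s), hτ s hs, hψ, ← ha]
      have h1 : P.f a * y * P.f a = y * P.f (app c a ^^^ a) := by
        have h2 := hc a
        rw [hyinv] at h2
        rw [P.f_xor (app c a) a, ← h2]
        calc P.f a * y * P.f a = (y * y) * (P.f a * y * P.f a) := by rw [hyy, one_mul]
          _ = y * (y * P.f a * y * P.f a) := by group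
      calc k * P.f r * k⁻¹ = g⁻¹ * (P.f a * (g * P.f r * g⁻¹) * (P.f a)⁻¹) * g := by rw [hk]; group
        _ = g⁻¹ * (y * P.f (app c a ^^^ a)) * g := by rw [← hy, P.f_inv, h1]
        _ = P.f r * (g⁻¹ * P.f (app c a ^^^ a) * g) := by rw [hy]; group
    obtain ⟨ck, hck⟩ := P.act k (P.fullW hC hr e)
    exact (P.f_inj ((hck r).symm.trans e)) ▸ app_mem ho ck hro
  have τfix : ∀ s ∈ S0, ∀ s' ∈ S, app (d s') (τ s) = τ s := fun s hs s' hs' =>
    P.fixed_of_comm (hd s' hs') (by rw [hτ s hs]; exact ψcomm s' s)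
  -- the fibres inject into `S0`
  have hfib : ∀ b ∈ S.image d, (S.filter fun s => d s = b).card ≤ S0.card := by
    intro b hb
    obtain ⟨s1, hs1, rfl⟩ := mem_image.1 hb
    refine Finset.card_le_card_of_injOn (fun s => s ^^^ s1) ?_ ?_
    · intro s hs
      obtain ⟨hsS, hsd⟩ := mem_filter.1 (mem_coe.1 hs)
      have hx := hSxor s hsS s1 hs1
      refine mem_coe.2 (mem_filter.2 ⟨hx, P.acts_unique (hd _ hx) ?_⟩)
      have h2 := P.acts_comp (hd s hsS) (hd s1 hs1)
      rwa [ψmul, hsd, P.code_inv (hd s1 hs1) (ψsq s1)] at h2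
    · intro s _ s' _ e
      have := congrArg (fun z => z ^^^ s1) e
      simp only [Fin.ext_iff, Fin.xor_val_of_two_pow (w := 8), Nat.xor_assoc, Nat.xor_self,
        Nat.xor_zero] at this
      exact Fin.ext this
  have hmain := card_le_mul_card_image S S0.card hfib
  -- a bound for a set fixed by some codes
  have bound : ∀ p : V → Bool, (∀ s ∈ S0, p (r ^^^ τ s)) → S0.card ≤ (o.filter fun u => p u).length := by
    intro p hp
    refine le_trans ?_ (List.toFinset_card_le _)
    refine Finset.card_le_card_of_injOn (fun s => r ^^^ τ s) ?_ ?_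
    · intro s hs
      exact mem_coe.2 (List.mem_toFinset.2 (List.mem_filter.2 ⟨horb s (mem_coe.1 hs), hp s (mem_coe.1 hs)⟩))
    · intro s hs s' hs' e
      refine τinj s (mem_coe.1 hs) s' (mem_coe.1 hs') ?_
      have := congrArg (fun z => r ^^^ z) e
      simpa [xor_cancel] using this
  have fixr : ∀ s' ∈ S, ∀ s ∈ S0, app (d s') (r ^^^ τ s) = r ^^^ τ s := fun s' hs' s hs => by
    refine P.fixed_of_comm (hd s' hs') ?_
    rw [P.f_xor]
    exact (show Commute (ψ s') (P.f r) from ψr s' hs').mul_right (by rw [hτ s hs]; exact ψcomm s' s)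
  by_cases hA : ∀ s ∈ S, d s = eC
  · have e0 : S0 = S := Finset.filter_true_of_mem hA
    obtain ⟨s1, hs1, hne⟩ : ∃ s1 ∈ S, s1 ≠ 0 := by
      by_contra h
      push Not at h
      have : S.card ≤ ({0} : Finset V).card :=
        Finset.card_le_card fun s hs => Finset.mem_singleton.2 (h s hs)
      rw [Finset.card_singleton] at this
      omega
    have hs1' : s1 ∈ S0 := e0.symm ▸ hs1
    set v := τ s1 with hv
    have hv0 : v ≠ 0 := fun e => by
      have h1 := hτ s1 hs1'
      rw [← hv, e, P.f_zero] at h1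
      simp only [hψ] at h1
      refine P.f_ne hne ?_
      calc P.f s1 = g * (g⁻¹ * P.f s1 * g) * g⁻¹ := by group
        _ = 1 := by rw [← h1, mul_one, mul_inv_cancel]
    have h16 := hT0 v hv0 (horb s1 hs1')
    have hb := bound (fun u => decide (u ^^^ v ∈ o)) fun s hs => by
      refine decide_eq_true ?_
      have hmem : s ^^^ s1 ∈ S0 := e0.symm ▸ hSxor s (e0 ▸ hs) s1 hs1
      have e1 : τ (s ^^^ s1) = τ s ^^^ v := P.f_inj (by
        rw [hτ _ hmem, P.f_xor, hτ s hs, hv, hτ s1 hs1', ψmul])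
      have := horb _ hmem
      rw [e1] at this
      convert this using 1
      exact Fin.ext (by simp [Fin.xor_val_of_two_pow (w := 8), Nat.xor_assoc])
    rw [e0] at hb
    omega
  push Not at hA
  obtain ⟨s1, hs1, hd1⟩ := hA
  have hb1 := (bound (fun u => decide (app (d s1) u = u)) fun s hs =>
    decide_eq_true (fixr s1 hs1 s hs)).trans_lt (hT1 _ (hdl s1 hs1) hd1)
  by_cases hB : ∀ s ∈ S, d s = eC ∨ d s = d s1
  · have hsub : S.image d ⊆ {eC, d s1} := fun x hx => by
      obtain ⟨s, hs, rfl⟩ := mem_image.1 hx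
      rcases hB s hs with h | h <;> simp [h]
    have h2 := (Finset.card_le_card hsub).trans Finset.card_le_two
    have := hmain.trans (Nat.mul_le_mul_left _ h2)
    omega
  push Not at hB
  obtain ⟨s2, hs2, hd2, hd21⟩ := hB
  obtain ⟨hb2, hA4⟩ := hT2 _ (hdl s1 hs1) _ (hdl s2 hs2) hd1 hd2 (Ne.symm hd21) (hdc s1 hs1 s2 hs2)
  have hb2' := (bound (fun u => decide (app (d s1) u = u ∧ app (d s2) u = u)) fun s hs =>
    decide_eq_true ⟨fixr s1 hs1 s hs, fixr s2 hs2 s hs⟩).trans_lt hb2
  have hsub : S.image d ⊆ (l.filter fun x => decide (mulC x (d s1) = mulC (d s1) x ∧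
      mulC x (d s2) = mulC (d s2) x)).toFinset := fun x hx => by
    obtain ⟨s, hs, rfl⟩ := mem_image.1 hx
    exact List.mem_toFinset.2 (List.mem_filter.2 ⟨hdl s hs,
      decide_eq_true ⟨hdc s hs s1 hs1, hdc s hs s2 hs2⟩⟩)
  have h4 := ((Finset.card_le_card hsub).trans (List.toFinset_card_le _)).trans hA4
  have := hmain.trans (Nat.mul_le_mul_left _ h4)
  omega

end Hyp

end Cfsg.Agent.O8Three.Closed
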