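import Cfsg.Agent.Lib.O8Three.Closed.Code
import Mathlib.GroupTheory.Coset.Basic
import Mathlib.Tactic.Group

/-!
S3372: a subgroup `M` of shape `2⁸:(Sym(3) ≀ 3)` which is strongly embedded at the prime three.
-/

set_option autoImplicit false

namespace Cfsg.Agent.O8Three.Closed

open Subgroup

/-- The hypotheses on `M`: it has a normal self-centralising elementary subgroup `f V` of order `2⁸`, on which it
induces the maps of the codes, and it controls the fusion of its elements of order three. -/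
structure Hyp (X : Type*) [Group X] where
  /-- the subgroup -/
  M : Subgroup X
  /-- the vectors -/
  f : V → X
  f_xor : ∀ a b, f (a ^^^ b) = f a * f b
  f_inj : Function.Injective f
  f_mem : ∀ v, f v ∈ M
  act : ∀ m ∈ M, ∃ c : Code, ∀ v, m * f v * m⁻¹ = f (app c v)
  real : ∀ c : Code, ∃ m ∈ M, ∀ v, m * f v * m⁻¹ = f (app c v)
  cen : ∀ m ∈ M, (∀ v, m * f v = f v * m) → ∃ v, f v = m
  strong : ∀ x ∈ M, x ^ 3 = 1 → x ≠ 1 → ∀ g : X, g * x * g⁻¹ ∈ M → g ∈ M

namespace Hyp

variable {X : Type*} [Group X] (P : Hyp X)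

/-- Every element carrying `x` into `M` lies in `M`. -/
def Full (x : X) : Prop := ∀ g : X, g * x * g⁻¹ ∈ P.M → g ∈ P.M

/-- The element `m` induces the map of the code `c`. -/
def Acts (m : X) (c : Code) : Prop := ∀ v, m * P.f v * m⁻¹ = P.f (app c v)

theorem f_sq (v : V) : P.f v * P.f v = P.f 0 := by
  rw [← P.f_xor]
  congr 1
  exact Fin.ext (by simp [Fin.xor_val_of_two_pow (w := 8)])

theorem f_zero : P.f 0 = 1 := by
  have h := P.f_sq 0
  exact mul_eq_left.1 h

theorem f_self (v : V) : P.f v * P.f v = 1 := (P.f_sq v).trans P.f_zero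

theorem f_ne {v : V} (h : v ≠ 0) : P.f v ≠ 1 := fun e => h (P.f_inj (e.trans P.f_zero.symm))

theorem f_comm (a b : V) : P.f a * P.f b = P.f b * P.f a := by
  rw [← P.f_xor, ← P.f_xor]
  congr 1
  exact Fin.ext (by simp [Fin.xor_val_of_two_pow (w := 8), Nat.xor_comm])

theorem Full.conj {x : X} (h : P.Full x) {m : X} (hm : m ∈ P.M) : P.Full (m * x * m⁻¹) := by
  intro g hg
  have h1 : g * m ∈ P.M := h _ (by
    rwa [show g * m * x * (g * m)⁻¹ = g * (m * x * m⁻¹) * g⁻¹ by group])
  have h2 := mul_mem h1 (inv_mem hm)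
  rwa [mul_inv_cancel_right] at h2

/-- All members of an orbit are full once its representative is. -/
theorem full_orbit {r : V} (h : P.Full (P.f r)) {wit : List Code} {o : List V}
    (ho : o = wit.map (fun c => app c r)) {v : V} (hv : v ∈ o) : P.Full (P.f v) := by
  rw [ho] at hv
  obtain ⟨c, -, rfl⟩ := List.mem_map.1 hv
  obtain ⟨m, hm, e⟩ := P.real c
  rw [← e]
  exact Full.conj P h hm

/-- The orbit lists are invariant under `M`. -/
theorem conj_mem {o : List V} (ho : o ∈ orbits) {m : X} (hm : m ∈ P.M) {v u : V} (hv : v ∈ o)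
    (e : m * P.f v * m⁻¹ = P.f u) : u ∈ o := by
  obtain ⟨c, hc⟩ := P.act m hm
  rw [hc] at e
  exact P.f_inj e ▸ app_mem ho c hv

end Hyp

end Cfsg.Agent.O8Three.Closed
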