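import Cfsg.Agent.Lib.O8Three.Closed.Fusion

/-!
S3372: a subgroup of shape `2⁸:(Sym(3) × Sym(3) × Sym(3))`, strongly embedded at the prime three, is everything.
-/

set_option autoImplicit false
set_option maxRecDepth 20000

namespace Cfsg.Agent.O8Three.Closed

open Subgroup

universe u

theorem tight12' : Tight r12 orb12 inv12 := tight12

theorem tight18a' : Tight 6 orb18a inv18a := tight18a

namespace Hyp

variable {X : Type u} [Group X] [Finite X] (P : Hyp X)

/-- Centralisers in `M` pass along the orbits. -/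
theorem cent_orbit {r : V} {wit : List Code} {o : List V} (ho : o = wit.map (fun c => app c r))
    (h : centralizer ({P.f r} : Set X) ≤ P.M) {v : V} (hv : v ∈ o) :
    centralizer ({P.f v} : Set X) ≤ P.M := by
  rw [ho] at hv
  obtain ⟨c, -, rfl⟩ := List.mem_map.1 hv
  obtain ⟨m, hm, e⟩ := P.real c
  intro x hx
  have h1 := mem_centralizer_singleton_iff.1 hx
  rw [← e] at h1
  have h2 : m⁻¹ * x * m ∈ P.M := h (mem_centralizer_singleton_iff.2 (by
    calc m⁻¹ * x * m * P.f r = m⁻¹ * (x * (m * P.f r * m⁻¹)) * m := by group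
      _ = m⁻¹ * (m * P.f r * m⁻¹ * x) * m := by rw [h1]
      _ = P.f r * (m⁻¹ * x * m) := by group))
  have h3 := mul_mem (mul_mem hm h2) (inv_mem hm)
  rwa [show m * (m⁻¹ * x * m) * m⁻¹ = x by group] at h3

/-- **`M` is everything.** -/
theorem eq_top : P.M = ⊤ := by
  obtain ⟨m107, m182, m109, m158, m126, m6, e108, e6, e18, e20, w6, w18, w20, w24⟩ := members
  have hC12 : centralizer ({P.f r12} : Set X) ≤ P.M := P.base
  have F107 : P.Full (P.f 107) :=
    P.full_of_tight hC12 (o := orb12) (by simp [orbits]) m107 hC12 tight12'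
  have F12 : ∀ v ∈ orb12, P.Full (P.f v) := fun v hv => P.full_orbit F107 orb12_eq hv
  have h18a : centralizer ({P.f 6} : Set X) ≤ P.M :=
    P.step (b := 182) (by simp [orbits]) (by simp [orbits]) m107 e6 iso18a (by decide) (by decide) (by decide)
      (F12 _ m107) (F12 _ m182) (Or.inr (F12 _ w6))
  have h18b : centralizer ({P.f 18} : Set X) ≤ P.M :=
    P.step (b := 158) (by simp [orbits]) (by simp [orbits]) m107 e18 iso18b (by decide) (by decide) (by decide)
      (F12 _ m107) (F12 _ m158) (Or.inr (F12 _ w18))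
  have h18c : centralizer ({P.f 20} : Set X) ≤ P.M :=
    P.step (b := 158) (by simp [orbits]) (by simp [orbits]) m109 e20 iso18c (by decide) (by decide) (by decide)
      (F12 _ m109) (F12 _ m158) (Or.inr (F12 _ w20))
  have F6 : P.Full (P.f 6) :=
    P.full_of_tight hC12 (o := orb18a) (by simp [orbits]) m6 h18a tight18a'
  have F18 : ∀ v ∈ orb18a, P.Full (P.f v) := fun v hv => P.full_orbit F6 orb18a_eq hv
  have h108 : centralizer ({P.f 24} : Set X) ≤ P.M :=
    P.step (b := 6) (by simp [orbits]) (by simp [orbits]) m126 e108 iso108 (by decide) (by decide) (by decide)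
      (F12 _ m126) (F18 _ m6) (Or.inr (F18 _ w24))
  refine P.eq_top_of (oa := orb12) (oc := orb18a) (by simp [orbits]) (by simp [orbits]) m107 m6 orb_disjoint
    F107 F6 fun v hv hne => ?_
  have h := last_step v hv hne
  simp only [List.mem_append] at h
  rcases h with (((h | h) | h) | h) | h
  · exact P.cent_orbit orb12_eq hC12 h
  · exact P.cent_orbit orb18a_eq h18a h
  · exact P.cent_orbit orb18b_eq h18b h
  · exact P.cent_orbit orb18c_eq h18c h
  · exact P.cent_orbit orb108_eq h108 h

end Hyp

end Cfsg.Agent.O8Three.Closed
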