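import Cfsg.Agent.Lib.O8Three.Closed.Hyp
import Cfsg.Agent.Lib.L43Three.CaseB.Invol.Generic
import Cfsg.Agent.Lib.Omega8Rec.Closed.Key

/-!
S3372: the step from two commuting involutions with controlled fusion, and the last dihedral step.
-/

set_option autoImplicit false

namespace Cfsg.Agent.O8Three.Closed

open Subgroup

universe u

namespace Hyp

variable {X : Type u} [Group X] (P : Hyp X)

theorem mem_zpowers_f {r : V} {x : X} : x ∈ zpowers (P.f r) ↔ x = 1 ∨ x = P.f r := by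
  constructor
  · intro h
    obtain ⟨n, rfl⟩ := mem_zpowers_iff.1 h
    have h2 : P.f r ^ (2 : ℤ) = 1 := by rw [zpow_two]; exact P.f_self r
    obtain ⟨m, rfl | rfl⟩ := n.even_or_odd'
    · exact Or.inl (by rw [zpow_mul, h2, one_zpow])
    · exact Or.inr (by rw [zpow_add, zpow_mul, h2, one_zpow, one_mul, zpow_one])
  · rintro (rfl | rfl)
    · exact one_mem _
    · exact mem_zpowers _

theorem f_mem_zpowers {r v : V} : P.f v ∈ zpowers (P.f r) ↔ v = 0 ∨ v = r := by
  rw [P.mem_zpowers_f, ← P.f_zero, P.f_inj.eq_iff, P.f_inj.eq_iff]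

theorem xor_eq_zero {a b : V} : a ^^^ b = 0 ↔ a = b := by
  rw [Fin.ext_iff, Fin.ext_iff, Fin.xor_val_of_two_pow (w := 8)]
  exact Nat.xor_eq_zero_iff

theorem xor_cancel (a b : V) : a ^^^ (a ^^^ b) = b := by
  refine Fin.ext ?_
  simp [Fin.xor_val_of_two_pow (w := 8), ← Nat.xor_assoc]

theorem f_inv (v : V) : (P.f v)⁻¹ = P.f v := inv_eq_of_mul_eq_one_right (P.f_self v)

theorem f_cent (r v : V) : P.f v ∈ centralizer ({P.f r} : Set X) :=
  mem_centralizer_singleton_iff.2 (P.f_comm v r)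

/-- **The step by the theorem of Glauberman.** -/
theorem step [Finite X] {r a b : V} {o o' : List V} (ho : o ∈ orbits) (ho' : o' ∈ orbits)
    (hao : a ∈ o) (hao' : a ^^^ r ∈ o') (hiso : ∀ v ∈ o, v ^^^ r ∈ o' → v = a ∨ v = a ^^^ r)
    (ha : a ≠ 0 ∧ a ≠ r) (hb : b ≠ 0 ∧ b ≠ r) (hab : a ^^^ b ≠ 0 ∧ a ^^^ b ≠ r)
    (hA : P.Full (P.f a)) (hB : P.Full (P.f b))
    (hW : P.Full (P.f (a ^^^ b)) ∨ P.Full (P.f (a ^^^ b ^^^ r))) :
    centralizer ({P.f r} : Set X) ≤ P.M := by
  classical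
  set N : Subgroup X := centralizer ({P.f r} : Set X) with hN
  set K : Subgroup X := zpowers (P.f r) with hK
  have hKM : K ≤ P.M := by rw [hK, zpowers_le]; exact P.f_mem r
  have hn : N ≤ normalizer (K : Set X) := fun g hg => mem_normalizer_iff.2 fun k => by
    have h1 : g * P.f r * g⁻¹ = P.f r := by
      rw [mem_centralizer_singleton_iff.1 hg, mul_inv_cancel_right]
    simp only [hK, P.mem_zpowers_f]
    refine or_congr ?_ ?_
    · rw [mul_inv_eq_one, mul_eq_left]
    · constructor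
      · rintro rfl; exact h1
      · intro e
        exact mul_left_cancel (mul_right_cancel (e.trans h1.symm))
  -- an element moving `c` inside its coset lies in `M`
  have pull : ∀ {c : V}, P.Full (P.f c) → ∀ g : X, g * P.f c * g⁻¹ * (P.f c)⁻¹ ∈ K → g ∈ P.M := by
    intro c hc g hg
    refine hc g ?_
    have h := mul_mem (hKM hg) (P.f_mem c)
    rwa [inv_mul_cancel_right] at h
  refine L43Three.CaseB.le_of_isolated hn hKM (P.f_cent r a) ?_ ?_ ?_ (fun g _ hg => pull hA g hg) ?_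
  · rw [P.f_self]; exact one_mem _
  · rw [hK, P.f_mem_zpowers]
    exact fun h => h.elim ha.1 ha.2
  · intro g hg h
    set y := g * P.f a * g⁻¹ with hy
    have hyM : y ∈ P.M := pull hA y h
    have hgM : g ∈ P.M := hA g hyM
    obtain ⟨c, hc⟩ := P.act g hgM
    have e1 : y = P.f (app c a) := hc a
    have e2 : g * P.f (a ^^^ r) * g⁻¹ = P.f (app c a ^^^ r) := by
      have h1 : g * P.f r * g⁻¹ = P.f r := by
        rw [mem_centralizer_singleton_iff.1 hg, mul_inv_cancel_right]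
      rw [P.f_xor, P.f_xor, ← e1, hy]
      conv_rhs => rw [← h1]
      group
    rw [e1, P.f_inv, ← P.f_xor, hK, P.f_mem_zpowers]
    rcases hiso _ (app_mem ho c hao) (P.conj_mem ho' hgM hao' e2) with e | e
    · exact Or.inl (xor_eq_zero.2 e)
    · refine Or.inr ?_
      rw [e]
      refine Fin.ext ?_
      simp [Fin.xor_val_of_two_pow (w := 8), Nat.xor_comm (a : ℕ) r]
  · intro Q _ _ π hker hsur O hO hodd x hx
    have hπ : ∀ v, π ⟨P.f v, P.f_cent r v⟩ = 1 ↔ v = 0 ∨ v = r := fun v =>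
      (hker _).trans P.f_mem_zpowers
    set A := π ⟨P.f a, P.f_cent r a⟩ with hAdef
    set B := π ⟨P.f b, P.f_cent r b⟩ with hBdef
    have hmul : ∀ u v, π ⟨P.f u, P.f_cent r u⟩ * π ⟨P.f v, P.f_cent r v⟩ =
        π ⟨P.f (u ^^^ v), P.f_cent r _⟩ := fun u v => by
      rw [← map_mul]; exact congrArg π (Subtype.ext (P.f_xor u v).symm)
    have hsq : ∀ v, π ⟨P.f v, P.f_cent r v⟩ * π ⟨P.f v, P.f_cent r v⟩ = 1 := fun v => by
      rw [← map_mul, hker]
      show P.f v * P.f v ∈ K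
      rw [P.f_self]; exact one_mem _
    have hO' : O ≤ (P.M.subgroupOf N).map π := by
      refine L43Three.CaseB.le_of_four hO hodd (hsq a) (hsq b) ?_ ?_ ?_ ?_ ?_
      · rw [← map_mul, ← map_mul]
        exact congrArg π (Subtype.ext (P.f_comm a b))
      · exact fun e => ((hπ a).1 e).elim ha.1 ha.2
      · exact fun e => ((hπ b).1 e).elim hb.1 hb.2
      · intro e
        have h := hsq b
        nth_rw 1 [← e] at h
        rw [hmul] at h
        exact ((hπ _).1 h).elim hab.1 hab.2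
      · intro q hq c hc hqc
        obtain ⟨g, rfl⟩ := hsur q
        refine ⟨g, mem_subgroupOf.2 ?_, rfl⟩
        have conv : ∀ v, π g * π ⟨P.f v, P.f_cent r v⟩ = π ⟨P.f v, P.f_cent r v⟩ * π g →
            (g : X) * P.f v * (g : X)⁻¹ * (P.f v)⁻¹ ∈ K := fun v h => by
          have h1 : π (g * ⟨P.f v, P.f_cent r v⟩ * g⁻¹ * (⟨P.f v, P.f_cent r v⟩ : N)⁻¹) = 1 := by
            rw [map_mul, map_mul, map_mul, h, map_inv, map_inv, mul_inv_cancel_right, mul_inv_cancel]
          exact (hker _).1 h1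
        rcases hc with rfl | rfl | rfl
        · exact pull hA g (conv a hqc)
        · exact pull hB g (conv b hqc)
        · rw [hmul] at hqc
          rcases hW with h | h
          · exact pull h g (conv _ hqc)
          · refine pull h g ?_
            have h1 : (g : X) * P.f r * (g : X)⁻¹ = P.f r := by
              rw [mem_centralizer_singleton_iff.1 g.2, mul_inv_cancel_right]
            have e : (g : X) * P.f (a ^^^ b ^^^ r) * (g : X)⁻¹ * (P.f (a ^^^ b ^^^ r))⁻¹ =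
                (g : X) * P.f (a ^^^ b) * (g : X)⁻¹ * (P.f (a ^^^ b))⁻¹ := by
              rw [P.f_xor (a ^^^ b) r]
              calc (g : X) * (P.f (a ^^^ b) * P.f r) * (g : X)⁻¹ * (P.f (a ^^^ b) * P.f r)⁻¹
                  = ((g : X) * P.f (a ^^^ b) * (g : X)⁻¹) * ((g : X) * P.f r * (g : X)⁻¹) *
                    (P.f r)⁻¹ * (P.f (a ^^^ b))⁻¹ := by group
                _ = _ := by rw [h1]; group
            rw [e]
            exact conv _ hqc
    obtain ⟨m, hm, e⟩ := hO' hx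
    have h1 : π (x * m⁻¹) = 1 := by rw [map_mul, map_inv, e, mul_inv_cancel]
    have h2 := mul_mem (hKM ((hker _).1 h1)) (mem_subgroupOf.1 hm)
    rwa [coe_mul, coe_inv, inv_mul_cancel_right] at h2

/-- An element whose centraliser lies in `M` and contains an element of order three of `M` is full. -/
theorem full_of_cent {r : X} (hr : r ∈ P.M) (hC : centralizer ({r} : Set X) ≤ P.M)
    (hy : ∀ m ∈ P.M, ∀ g : X, g * r * g⁻¹ = m → ∃ y ∈ P.M, y ^ 3 = 1 ∧ y ≠ 1 ∧ y * m = m * y) :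
    P.Full r := by
  intro g hg
  obtain ⟨y, hyM, hy3, hy1, hym⟩ := hy _ hg g rfl
  have hc : g⁻¹ * y * g ∈ P.M := hC (mem_centralizer_singleton_iff.2 (by
    calc g⁻¹ * y * g * r = g⁻¹ * (y * (g * r * g⁻¹)) * g := by group
      _ = g⁻¹ * (g * r * g⁻¹ * y) * g := by rw [hym]
      _ = r * (g⁻¹ * y * g) := by group))
  have h := P.strong y hyM hy3 hy1 g⁻¹ (by rwa [inv_inv])
  simpa using inv_mem h

/-- **The last step.** -/
theorem eq_top_of [Finite X] {a c : V} {oa oc : List V} (hoa : oa ∈ orbits) (hoc : oc ∈ orbits)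
    (haa : a ∈ oa) (hcc : c ∈ oc) (hdis : ∀ v ∈ oa, v ∉ oc) (hA : P.Full (P.f a)) (hC : P.Full (P.f c))
    (hprod : ∀ v ∈ oa ++ oc, v ≠ a → centralizer ({P.f (a ^^^ v)} : Set X) ≤ P.M) : P.M = ⊤ := by
  refine eq_top_iff.2 fun g _ => ?_
  by_contra hg
  set b := g * P.f c * g⁻¹ with hb
  have hbM : b ∉ P.M := fun h => hg (hC g h)
  have hbb : b * b = 1 := by
    calc b * b = g * (P.f c * P.f c) * g⁻¹ := by rw [hb]; group
      _ = 1 := by rw [P.f_self]; group
  have keyC : ∀ d : X, d * P.f c * d⁻¹ ∈ P.M → ∃ v ∈ oc, d * P.f c * d⁻¹ = P.f v := fun d hd => by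
    obtain ⟨k, hk⟩ := P.act d (hC d hd)
    exact ⟨_, app_mem hoc k hcc, hk c⟩
  rcases Omega8Rec.Closed.dihedral (P.f_self a) hbb with ⟨d, -, hd⟩ | ⟨w, hw1, -, hwa, hwb, hconj, -⟩
  · obtain ⟨v, hv, e⟩ := keyC (d * g) (by
      rw [show d * g * P.f c * (d * g)⁻¹ = d * b * d⁻¹ by rw [hb]; group, hd]; exact P.f_mem a)
    rw [show d * g * P.f c * (d * g)⁻¹ = d * b * d⁻¹ by rw [hb]; group, hd] at e
    exact hdis a haa (P.f_inj e ▸ hv)
  · have hwM : w ∈ P.M := hA w (by rw [hwa, mul_inv_cancel_right]; exact P.f_mem a)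
    have hwaM : w * P.f a ∈ P.M := mul_mem hwM (P.f_mem a)
    obtain ⟨v, hv, e⟩ : ∃ v ∈ oa ++ oc, w * P.f a = P.f v := by
      rcases hconj with h | h
      · obtain ⟨k, hk⟩ := isConj_iff.1 h
        obtain ⟨l, hl⟩ := P.act k (hA k (hk ▸ hwaM))
        exact ⟨_, List.mem_append_left _ (app_mem hoa l haa), hk.symm.trans (hl a)⟩
      · obtain ⟨k, hk⟩ := isConj_iff.1 h
        have e2 : k * g * P.f c * (k * g)⁻¹ = w * P.f a := by rw [← hk, hb]; group
        obtain ⟨v, hv, e⟩ := keyC (k * g) (e2 ▸ hwaM)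
        exact ⟨v, List.mem_append_right _ hv, e2.symm.trans e⟩
    have hwv : w = P.f (a ^^^ v) := by
      rw [P.f_xor, ← e, ← mul_assoc, ← hwa, mul_assoc, P.f_self, mul_one]
    have hne : v ≠ a := by
      rintro rfl
      exact hw1 (mul_eq_right.1 e)
    refine hbM (hprod v hv hne (mem_centralizer_singleton_iff.2 ?_))
    rw [← hwv, hwb]

end Hyp

end Cfsg.Agent.O8Three.Closed
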